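/-
Project MON.  Generators of `N` and of `D'`, the order of `N`.
-/
import Cfsg.Agent.MON.StrC

set_option autoImplicit false

namespace Cfsg.Agent.MON.StB

open Cfsg.Agent.H14 Equiv Pointwise

attribute [local irreducible] toP

variable {H : Subgroup N}

def In (H : Subgroup N) (c : ℕ) : Prop := InN c ∧ el c ∈ H

theorem In.cm (hK : K0.subgroupOf N ≤ H) {c d : ℕ} (hc : In H c) (hd : In H d) : In H (cm c d) := by
  obtain ⟨h, κ, hκ, e⟩ := el_cm hc.1 hd.1
  exact ⟨h, by rw [e]; exact mul_mem (hK hκ) (mul_mem hc.2 hd.2)⟩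

noncomputable def slp (ws : List (ℕ × ℕ)) : List ℕ → List ℕ :=
  List.rec (fun L => L) (fun w _ ih L =>
    force (cm (nthD L cOne w.1) (nthD L cOne w.2)) fun v => ih (v :: L)) ws

theorem in_slp (hK : K0.subgroupOf N ≤ H) (ws : List (ℕ × ℕ)) {L : List ℕ} (h : ∀ c ∈ L, In H c) :
    ∀ c ∈ slp ws L, In H c := by
  induction ws generalizing L with
  | nil => exact h
  | cons w ws ih =>
    have h1 : ∀ i, In H (nthD L cOne i) := fun i => (nthD_mem_or L cOne i).elim (h _) fun e => by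
      rw [e]; exact ⟨inN_one, by rw [el_one]; exact one_mem _⟩
    have : slp (w :: ws) L = force (cm (nthD L cOne w.1) (nthD L cOne w.2)) fun v => slp ws (v :: L) := rfl
    rw [this, force_eq]
    exact ih (List.forall_mem_cons.2 ⟨(h1 _).cm hK (h1 _), h⟩)

/-- the code `c` acts on the coordinates as the packed permutation `P` -/
noncomputable def okP (c P : ℕ) : Bool := allN 12 fun j =>
  Nat.beq (cw (Nat.xor (fld (c >>> 4) (13 * (j + 2))) (fld (c >>> 4) (13 * 1))))
    (img (nat_lit 5) (nat_lit 32) (nat_lit 24) P (cw (2 ^ j)))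

theorem piN_code {c : ℕ} (hc : InN c) {s : Perm (Fin 3)} {m : M24} (h0 : c &&& 3 = s 0)
    (h1 : c >>> 2 &&& 3 = s 1) (h2 : okP c (GE.pk m) = true) : piN (el c) = (s, m) := by
  have e := code_el hc
  refine piN_eq (Fin.ext (by rw [← code_k0, e, h0])) (Fin.ext (by rw [← code_k1, e, h1]))
    (eq_of_basis (piN_lin _) fun j hj i => ?_)
  have := beq_iff.1 (allN_iff.1 h2 j hj)
  rw [← e, fld_code _ (by omega), fld_code _ (by omega)] at this
  have := Finset.ext_iff.1 ((congrArg bits this).trans (smul_bits _ _).symm) ((m : Perm GolayPt) i)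
  rw [apply_mem_perm_smul_finset, mem_bits, mem_bits] at this
  simp only [A.w, word]
  exact if_congr this rfl rfl

/-- `H` contains a translation by `u` on the component `0` and by `v` on the component `1` -/
def T (H : Subgroup N) (u v : ℕ) : Prop :=
  ∃ h ∈ H, piN h = 1 ∧ A.w (gv h 0 0) = A.w u ∧ A.w (gv h 1 0) = A.w v

theorem T.xor {u v u' v' : ℕ} (h : T H u v) (h' : T H u' v') : T H (u ^^^ u') (v ^^^ v') := by
  obtain ⟨a, a0, a1, a2, a3⟩ := h
  obtain ⟨b, b0, b1, b2, b3⟩ := h'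
  exact ⟨a * b, mul_mem a0 b0, by rw [map_mul, a1, b1, mul_one], by rw [ker_mul a1 b1, a2, b2, A.w_xor],
    by rw [ker_mul a1 b1, a3, b3, A.w_xor]⟩

theorem T.zero : T H 0 0 := ⟨1, one_mem _, map_one _, rfl, rfl⟩

noncomputable def okT (R : List ℕ) (u v : ℕ) : Bool := anyL R fun c =>
  Nat.beq (fld (c >>> 4) (13 * 0) % 4096) u && Nat.beq (fld (c >>> 4) (13 * 1) % 4096) v &&
    Nat.beq (c &&& 3) 0 && Nat.beq (c >>> 2 &&& 3) 1 && okP c (idP (nat_lit 5) (nat_lit 24))

theorem T_of {R : List ℕ} (hR : ∀ c ∈ R, In H c) {u v : ℕ} (h : okT R u v = true) : T H u v := by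
  obtain ⟨c, hc, h⟩ := anyL_iff.1 h
  simp only [Bool.and_eq_true, beq_iff] at h
  obtain ⟨⟨⟨⟨h1, h2⟩, h3⟩, h4⟩, h5⟩ := h
  have e := code_el (hR c hc).1
  rw [← e, fld_code _ (by omega)] at h1 h2
  exact ⟨el c, (hR c hc).2, piN_code (hR c hc).1 h3 h4 (by rw [← GE.pk_one] at h5; exact h5),
    by rw [← h1, A.w_mod]; rfl, by rw [← h2, A.w_mod]; rfl⟩

theorem T_om (hK : K0.subgroupOf N ≤ H) : T H (2 ^ 11) 0 := by
  obtain ⟨κ, h, h0, h1, h2, h3, h4⟩ : ∃ κ ∈ K0, gs κ 0 = 0 ∧ gs κ 1 = 1 ∧ Lin κ 1 ∧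
      A.w (gv κ 0 0) = A.w (2 ^ 11) ∧ A.w (gv κ 1 0) = A.w 0 := by
    refine ⟨cen ![2048, 4096, 6144], mem_K0.2 (Or.inr (Or.inl rfl)), by rw [gs, cen_apply],
      by rw [gs, cen_apply], lin_cen _, ?_, ?_⟩
    · rw [gv_cen, A.w_xo, A.zero_val, A.w_zero, zero_add]; rfl
    · rw [gv_cen, A.w_xo, A.zero_val, A.w_zero, zero_add]; exact A.w_sh 1
  exact ⟨⟨κ, K0_le_N h⟩, hK h, piN_of _ h0 h1 h2, h3, h4⟩

theorem T_snd {R : List ℕ} (hR : ∀ c ∈ R, In H c) (h : allN 12 (fun j => okT R 0 (2 ^ j)) = true) :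
    ∀ v < 2 ^ 12, T H 0 v :=
  A.xor_induct T.zero 12 (fun j hj => T_of hR (allN_iff.1 h j hj)) fun _ _ ha hb => ha.xor hb

theorem sg_in (hK : K0.subgroupOf N ≤ H) {R : List ℕ} (hR : ∀ c ∈ R, In H c)
    (h : ∀ j < 14, j ≠ 11 → cm cOne (sgc (2 ^ j)) ∈ R) :
    ∀ f < 2 ^ 14, ∀ hf : f.testBit 11 = false, (⟨sg f, sg_mem_N hf⟩ : N) ∈ H := by
  refine A.bit_induct (fun hf => ?_) 14 fun k hk d hd ih hf => ?_
  · rw [show (⟨sg 0, sg_mem_N hf⟩ : N) = 1 from Subtype.ext sg_zero]; exact one_mem _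
  · have h11 : k ≠ 11 := by
      rintro rfl
      rw [Nat.testBit_xor, Nat.testBit_lt_two_pow hd, Nat.testBit_two_pow_self] at hf
      exact absurd hf (by decide)
    have hb : (2 ^ k).testBit 11 = false := Nat.testBit_two_pow_of_ne h11
    rw [Nat.testBit_xor, hb, Bool.xor_false] at hf
    obtain ⟨-, κ, hκ, e⟩ := el_cm inN_one (inN_sgc hb)
    have h2 := (hR _ (h k hk h11)).2
    rw [e, el_one, one_mul, ← code_sg, show sg (2 ^ k) = (⟨_, sg_mem_N hb⟩ : N) from rfl, el_code,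
      Subgroup.mul_mem_cancel_left _ (hK hκ)] at h2
    have := mul_mem (ih hf) h2
    rwa [show (⟨sg d, sg_mem_N hf⟩ * ⟨_, sg_mem_N hb⟩ : N) = ⟨sg (d ^^^ 2 ^ k), _⟩ from
      Subtype.ext (sg_mul _ _)] at this

theorem ker_le (hs : ∀ f < 2 ^ 14, ∀ hf : f.testBit 11 = false, (⟨sg f, sg_mem_N hf⟩ : N) ∈ H) {g : N}
    (hg : piN g = 1) (h : T H (gv g 0 0) (gv g 1 0)) : g ∈ H := by
  obtain ⟨a, a0, a1, a2, a3⟩ := h
  have h1 : piN (a⁻¹ * g) = 1 := by rw [map_mul, map_inv, a1, hg, inv_one, mul_one]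
  have h2 := ker_mul a1 h1
  rw [mul_inv_cancel_left] at h2
  obtain ⟨f, hf, he, e, -⟩ := ker_sg h1 (by simpa [a2] using h2 0) (by simpa [a3] using h2 1)
  have := hs f hf he
  rwa [show (⟨sg f, sg_mem_N he⟩ : N) = a⁻¹ * g from Subtype.ext e.symm,
    Subgroup.mul_mem_cancel_left _ (inv_mem a0)] at this

theorem T.mod {u v : ℕ} (h : T H (u % 4096) (v % 4096)) : T H u v := by
  simpa only [T, A.w_mod] using h

/-- the permutations induced by the elements of `H` fixing the components -/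
noncomputable def KM (H : Subgroup N) : Subgroup (Perm GolayPt) :=
  ((H.map piN).comap (MonoidHom.inr _ _)).map M24.subtype

theorem inG_KM {c P : ℕ} (hc : In H c) (hP : GE.InG M24 P) (h0 : c &&& 3 = 0) (h1 : c >>> 2 &&& 3 = 1)
    (h2 : okP c P = true) : GE.InG (KM H) P := by
  obtain ⟨m, hm, rfl⟩ := hP
  exact ⟨m, ⟨⟨m, hm⟩, ⟨el c, hc.2, piN_code hc.1 h0 h1 h2⟩, rfl⟩, rfl⟩

theorem of_KM {m : M24} (h : (m : Perm GolayPt) ∈ KM H) : ∃ a ∈ H, piN a = (1, m) := by
  obtain ⟨n, ⟨a, ha, e⟩, e'⟩ := h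
  exact ⟨a, ha, by rw [e, ← Subtype.ext e']; rfl⟩

theorem okP_id {c : ℕ} (h : okP c (idP (nat_lit 5) (nat_lit 24)) = true) :
    okP c (GE.pk (1 : M24)) = true := by
  rw [← GE.pk_one] at h; exact h

def wsN : List (ℕ × ℕ) := [(0, 0), (0, 1), (0, 2), (0, 3), (0, 4), (0, 5), (0, 6), (0, 7), (0, 8), (0, 9), (0, 10), (0, 11), (0, 12),
  (0, 13), (0, 14), (0, 15), (0, 16), (0, 17), (0, 18), (0, 19), (0, 20), (0, 21), (22, 27), (0, 2), (23, 29),
  (0, 5), (24, 31), (0, 8), (25, 33), (0, 11), (26, 35), (0, 14), (27, 37), (0, 17), (28, 39), (0, 20), (29,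
  41), (0, 23), (30, 43), (0, 26), (31, 45), (0, 29), (32, 47), (0, 32), (47, 47), (45, 49), (0, 25), (46, 51),
  (0, 28), (47, 53), (0, 31), (48, 55), (0, 34), (49, 57), (0, 37), (50, 59), (0, 40), (51, 61), (0, 43), (52,
  63), (0, 46), (53, 65), (0, 49), (54, 67), (0, 52), (55, 69), (0, 55), (71, 20), (72, 19), (73, 18), (74, 17),
  (75, 16), (76, 15), (77, 14), (78, 13), (79, 12), (80, 11), (81, 10), (83, 54), (84, 55), (0, 54), (86, 57),
  (0, 56), (0, 55), (89, 60), (0, 59), (0, 58), (0, 57), (64, 62), (0, 61), (0, 60), (0, 59), (66, 64), (0, 63),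
  (0, 62), (0, 61), (101, 68), (0, 67), (0, 66), (0, 65), (0, 64), (77, 71), (0, 70), (0, 69), (0, 68), (0, 67),
  (80, 74), (0, 73), (0, 72), (0, 71), (0, 70), (116, 83), (0, 78), (0, 77), (0, 76), (0, 75), (0, 74), (122,
  93), (0, 86), (0, 85), (0, 84), (0, 81), (0, 78), (35, 128), (0, 0), (128, 0), (0, 81), (59, 49), (59, 50),
  (59, 51), (59, 52), (59, 53), (59, 54), (59, 55), (59, 56), (59, 57), (59, 58), (140, 142), (0, 93), (142,
  60), (0, 95), (144, 60), (0, 97), (146, 59), (0, 99), (148, 57), (0, 101), (150, 55), (0, 103), (152, 53), (0,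
  105), (154, 50), (0, 107), (156, 47), (0, 109), (158, 44), (0, 111), (160, 40), (0, 113), (34, 137), (33,
  138), (24, 139), (26, 140), (28, 141), (30, 142), (32, 143), (34, 144), (36, 145), (38, 146), (40, 147), (42,
  148), (93, 149), (49, 150), (56, 151), (63, 152), (69, 153), (75, 154), (81, 155), (86, 156), (91, 157), (96,
  158), (100, 159), (103, 160), (188, 161), (25, 162), (28, 163), (31, 164), (34, 165), (37, 166), (40, 167),
  (43, 168), (46, 169), (49, 170), (52, 171), (55, 172)]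

def RN : List ℕ := [0x10004001004400100040010004001000400100040000014,
  0x10014009004400100040010004001000400100040000024,
  0x10014009004400100040010004201000400100040000044,
  0x10014009004400100040010004201000480140040000084,
  0x10014009004402100040010004201000400140040000104,
  0x10004009004400100040010004201100480140040000204,
  0x10004009000402100040010404001100400140040000404,
  0x10014001000400100040810004001000480100040000804,
  0x10014001000402101040010404201000480100040001004,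
  0x10014001004400100040810004201100400140040002004,
  0x10014009004402101040010404201100480140040004004,
  0x10024011008404102041010804401200500180000020004,
  0x100540290144081040428110048014006000000c0040004,
  0x10094041024410108044012005201800000300140080004,
  0x10104089044420110048014006200000c80540240100004,
  0x10214109084442121050018000203001400940440200004,
  0x1040420910448014006000000c205102481140840400004,
  0x10804409200502180000030414009104402141040800004,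
  0x110148014006000000c0850024011008484102041000004,
  0x12015001800002301140090444221010488104042000004,
  0x14016000004c00500240910084241120410148044000004,
  0x1801000b0054029014402105042811404a0150048000004,
  0xc005006403100840c102043010804c0160050000004,
  0x10004001000400100040010004001000400140040000004,
  0x10004001000400100040010004001000480100040000004,
  0x10004001000400100040010004001100400100040000004,
  0x10004001000400100040010004201000400100040000004,
  0x10004001000400100040010404001000400100040000004,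
  0x10004001000400100040810004001000400100040000004,
  0x10004001000400101040010004001000400100040000004,
  0x10004001000402100040010004001000400100040000004,
  0x10004001004400100040010004001000400100040000004,
  0x10004009000400100040010004001000400100040000004,
  0x10014001000400100040010004001000400100040000004,
  0x2001c00d006403101840c106043011804c0160070000004,
  0x30014009004402101040810404201100480140060000004]

theorem RN_eq : (slp wsN NG).take 36 = RN := by decide +kernel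

theorem in_RN (hK : K0.subgroupOf N ≤ H) (h : ∀ c ∈ NG, In H c) : ∀ c ∈ RN, In H c := fun c hc =>
  in_slp hK wsN h c (List.mem_of_mem_take (RN_eq ▸ hc))

theorem T_N (hK : K0.subgroupOf N ≤ H) (h : ∀ c ∈ NG, In H c) (u v : ℕ) : T H u v := by
  have h1 : ∀ u < 2 ^ 12, T H u 0 := A.xor_induct (P := fun u => T H u 0) T.zero 12 (fun j hj => by
    rcases Nat.lt_succ_iff_lt_or_eq.1 hj with hj | rfl
    exacts [T_of (in_RN hK h) (allN_iff.1 (show allN 11 (fun j => okT RN (2 ^ j) 0) = true by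
      decide +kernel) j hj), T_om hK]) fun _ _ ha hb => ha.xor hb
  have := (h1 _ (A.mod_lt u)).xor (T_snd (in_RN hK h) (by decide +kernel) _ (A.mod_lt v))
  rw [Nat.xor_zero, Nat.zero_xor] at this
  exact this.mod

theorem closure_NG : K0.subgroupOf N ⊔ Subgroup.closure (el '' {c | c ∈ NG}) = ⊤ := by
  generalize hH : K0.subgroupOf N ⊔ Subgroup.closure (el '' {c | c ∈ NG}) = H
  have hK : K0.subgroupOf N ≤ H := hH ▸ le_sup_left
  have h : ∀ c ∈ NG, In H c := fun c hc =>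
    ⟨inN_NG c hc, hH ▸ Subgroup.mem_sup_right (Subgroup.subset_closure ⟨c, hc, rfl⟩)⟩
  have h' : ∀ i < 6, In H (nth NG i) := fun i hi => h _ (by revert i; decide +kernel)
  have hM : M24 ≤ KM H := by
    refine M24_eq_grp.le.trans (Enc.grp_le fun P hP => ?_)
    obtain ⟨i, hi, h0, h1, h2⟩ := (by decide +kernel : ∀ P ∈ m24Gens, ∃ i < 6, nth NG i &&& 3 = 0 ∧
      nth NG i >>> 2 &&& 3 = 1 ∧ okP (nth NG i) P = true) P hP
    exact inG_KM (h' i hi) (inG_m24Gens P hP) h0 h1 h2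
  have h3 : piN (el (nth NG 3)) = (Equiv.addRight 1, 1) :=
    piN_code (h' 3 (by decide)).1 (by decide +kernel) (by decide +kernel) (okP_id (by decide +kernel))
  have h4 : piN (el (nth NG 4)) = (swap 1 2, 1) :=
    piN_code (h' 4 (by decide)).1 (by decide +kernel) (by decide +kernel) (okP_id (by decide +kernel))
  refine eq_top_iff.2 fun g _ => ?_
  obtain ⟨i, -, j, -, e⟩ := s3_cases (piN g).1
  obtain ⟨a, ha, e'⟩ := of_KM (hM (piN g).2.2)
  have hb := mul_mem (mul_mem (pow_mem (h' 3 (by decide)).2 i) (pow_mem (h' 4 (by decide)).2 j)) ha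
  rw [← Subgroup.mul_mem_cancel_left _ (inv_mem hb)]
  refine ker_le (sg_in hK (in_RN hK h) (by decide +kernel)) ?_ (T_N hK h _ _)
  rw [map_mul, map_inv, inv_mul_eq_one]
  simp only [map_mul, map_pow, h3, h4, e', Prod.pow_mk, Prod.mk_mul_mk, one_pow, one_mul, mul_one, ← e]

theorem exists_sign {x a : PL} (h : A.w x = A.w a) : ∃ s ≤ 1, xo (4096 * s) x = a := by
  by_cases e : A.sn x = A.sn a
  · exact ⟨0, by omega, by rw [A.xo_zero, A.pl_ext h e]⟩
  · refine ⟨1, le_rfl, A.pl_ext (by rw [A.w_xo, A.w_sh, add_zero, h]) ?_⟩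
    rw [A.sn_xo, A.sn_sh le_rfl]
    exact (by decide : ∀ x y : ZMod 2, ¬ x = y → x + (1 : ℕ) = y) _ _ e

theorem piN_sg {f : ℕ} (h : sg f ∈ N) : piN ⟨sg f, h⟩ = 1 :=
  piN_of _ (by rw [gs, sg_apply]; rfl) (by rw [gs, sg_apply]; rfl) (lin_sg f)

theorem lt_2048 {f : ℕ} (he : f.testBit 11 = false) (f0 : f / 4096 % 2 = 0 / 4096)
    (f1 : f / 8192 = 0 / 4096) : f < 2048 := by
  rw [Nat.testBit_eq_decide_div_mod_eq, decide_eq_false_iff_not] at he
  omega

theorem stab_sg {g : N} (hg : piN g = 1) (e0 : gv g 0 0 = 0) (e1 : gv g 1 0 = 0) :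
    ∃ f : Fin 2048, (g : Perm Pt) = sg f := by
  obtain ⟨f, hf, he, e, f0, f1⟩ := ker_sg hg (by rw [e0, A.zero_val, A.w_zero])
    (by rw [e1, A.zero_val, A.w_zero])
  rw [e0, A.zero_val] at f0
  rw [e1, A.zero_val] at f1
  exact ⟨⟨f, lt_2048 he f0 f1⟩, e⟩

theorem ker_smul {g : N} (hg : piN g = 1) : g • ((((0, 0) : Pt), ((1, 0) : Pt)) : Pt × Pt) =
    ((0, gv g 0 0), (1, gv g 1 0)) :=
  Prod.ext (Prod.ext (ker_gs hg 0) rfl) (Prod.ext (ker_gs hg 1) rfl)

theorem orb_step {g : N} (hg : piN g = 1) {x : Perm Pt} (hx : x ∈ N) (h1 : piN ⟨x, hx⟩ = 1) :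
    ∃ k ∈ piN.ker, k • ((((0, 0) : Pt), ((1, 0) : Pt)) : Pt × Pt) =
      ((0, gv g 0 (gv x 0 0)), (1, gv g 1 (gv x 1 0))) := by
  have hk : piN (g * ⟨x, hx⟩) = 1 := by rw [map_mul, hg, h1, mul_one]
  refine ⟨_, hk, (ker_smul hk).trans ?_⟩
  rw [Subgroup.coe_mul, gv_mul (N_le_Col hx), gv_mul (N_le_Col hx), ker_gs h1, ker_gs h1]

theorem mem_stab {x : Perm Pt} (hx : x ∈ N) (h1 : piN ⟨x, hx⟩ = 1) (e0 : gv x 0 0 = 0) (e1 : gv x 1 0 = 0) :
    (⟨x, hx⟩ : N) ∈ piN.ker ⊓ MulAction.stabilizer N ((((0, 0) : Pt), ((1, 0) : Pt)) : Pt × Pt) :=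
  ⟨h1, (ker_smul h1).trans (by rw [e0, e1])⟩

theorem card_ker : Nat.card piN.ker = 2 ^ 37 := by
  rw [card_eq_orbit_mul piN.ker ((((0, 0) : Pt), ((1, 0) : Pt)) : Pt × Pt)]
  have h1 : {a | ∃ g ∈ piN.ker, g • ((((0, 0) : Pt), ((1, 0) : Pt)) : Pt × Pt) = a} =
      Set.range fun x : PL × PL => ((((0, x.1) : Pt), ((1, x.2) : Pt)) : Pt × Pt) := by
    ext x
    refine ⟨fun ⟨g, hg, h⟩ => ⟨(gv g 0 0, gv g 1 0), (ker_smul hg).symm.trans h⟩, ?_⟩
    rintro ⟨⟨a, b⟩, rfl⟩
    obtain ⟨g, -, hg, h0, h1⟩ := T_N (H := ⊤) le_top (fun c hc => ⟨inN_NG c hc, trivial⟩) a b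
    obtain ⟨s, hs, rfl⟩ := exists_sign h0
    obtain ⟨t, ht, rfl⟩ := exists_sign h1
    obtain ⟨k0, k1, k2⟩ := (by decide +kernel : ∀ s ≤ 1, ∀ t ≤ 1, (4096 * s + 8192 * t).testBit 11 = false ∧
      fv (4096 * s + 8192 * t) (0, 0) = s ∧ fv (4096 * s + 8192 * t) (1, 0) = t) s hs t ht
    have := orb_step hg (sg_mem_N k0) (piN_sg _)
    rwa [gv_sg, gv_sg, k1, k2, gv_sign (N_le_Col g.2) _ _ hs, gv_sign (N_le_Col g.2) _ _ ht] at this
  have h2 : Nat.card ↥(piN.ker ⊓ MulAction.stabilizer N ((((0, 0) : Pt), ((1, 0) : Pt)) : Pt × Pt)) =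
      Nat.card (Fin 2048) := by
    have hb : ∀ δ : Fin 2048, (δ : ℕ).testBit 11 = false := fun δ => Nat.testBit_lt_two_pow δ.2
    have hf : ∀ δ : Fin 2048, gv (sg δ) 0 0 = 0 ∧ gv (sg δ) 1 0 = 0 := fun δ => by
      have := (by decide +kernel : ∀ δ < 2048, fv δ (0, 0) = 0 ∧ fv δ (1, 0) = 0) δ δ.2
      rw [gv_sg, gv_sg, this.1, this.2, Nat.mul_zero, A.xo_zero]
      exact ⟨rfl, rfl⟩
    refine (Nat.card_eq_of_bijective (fun δ : Fin 2048 => ⟨⟨sg δ, sg_mem_N (hb δ)⟩,
      mem_stab _ (piN_sg _) (hf δ).1 (hf δ).2⟩) ⟨fun a b e => Fin.ext (sg_inj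
        (a.2.trans (by norm_num)) (b.2.trans (by norm_num)) (Subtype.mk.inj (Subtype.mk.inj e))), ?_⟩).symm
    rintro ⟨⟨g, hN⟩, hgh⟩
    have hg := MonoidHom.mem_ker.1 (Subgroup.mem_inf.1 hgh).1
    have h := (ker_smul hg).symm.trans (MulAction.mem_stabilizer_iff.1 (Subgroup.mem_inf.1 hgh).2)
    exact (stab_sg hg (congrArg (fun x : Pt × Pt => x.1.2) h) (congrArg (fun x : Pt × Pt => x.2.2) h)).imp
      fun f e => Subtype.mk_eq_mk.2 (Subtype.mk_eq_mk.2 e.symm)
  rw [h1, h2, Set.ncard_range_of_injective (fun a b e => Prod.ext (congrArg (fun x => x.1.2) e)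
    (congrArg (fun x => x.2.2) e)), Nat.card_prod, Nat.card_fin, Nat.card_fin]
  norm_num

theorem card_N : Nat.card N = 4 * 50472333605150392320 := by
  rw [← piN.ker.card_mul_index, card_ker, Subgroup.index_ker, MonoidHom.range_eq_top.2 piN_surj,
    Subgroup.card_top, Nat.card_prod, card_M24, Nat.card_perm, Nat.card_fin]
  norm_num [Nat.factorial]

theorem exists_piN : ∃ π : N →* Perm (Fin 3) × M24, Function.Surjective π ∧
    Nat.card π.ker = 2 ^ 37 ∧ (∀ (g : N) (p : Pt), ((g : Perm Pt) p).1 = (π g).1 p.1) ∧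
    ∀ (g : N) (k : Fin 3) (a : PL), bits (cw (((g : Perm Pt) (k, a)).2 ^^^ ((g : Perm Pt) (k, 0)).2)) =
      (bits (cw a)).map ((π g).2 : Perm GolayPt).toEmbedding := by
  refine ⟨piN, piN_surj, card_ker, fun g p => ?_, fun g k a => Finset.ext fun i => ?_⟩
  · rw [piN_fst, show p = (p.1, p.2) from rfl, g_eq (N_le_Col g.2)]
  · obtain ⟨i, rfl⟩ := ((piN g).2 : Perm GolayPt).surjective i
    have : A.w (gv g k a ^^^ gv g k 0) (((piN g).2 : Perm GolayPt) i) = A.w a i := by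
      rw [A.w_xor, Pi.add_apply, piN_lin, add_assoc, CharTwo.add_self_eq_zero, add_zero]
    rw [Finset.mem_map_equiv, symm_apply_apply, mem_bits, mem_bits]
    revert this
    exact (by decide : ∀ x y : Bool, (if x = true then (1 : ZMod 2) else 0) = (if y = true then 1 else 0) →
      (x = true ↔ y = true)) _ _

end Cfsg.Agent.MON.StB
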