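/-
Project MON.  Check of the table of `α`.
-/
import Cfsg.Agent.MON.TbA

set_option autoImplicit false
set_option maxRecDepth 100000
set_option Elab.async false

namespace Cfsg.Agent.MON

open Cfsg.Agent.H14

def ceA0 : List ℕ :=
 [nat_lit 0x0, nat_lit 0x2, nat_lit 0x4,
  nat_lit 0x6, nat_lit 0x8, nat_lit 0xa,
  nat_lit 0xc, nat_lit 0xe, nat_lit 0x10,
  nat_lit 0x12, nat_lit 0x14, nat_lit 0x16,
  nat_lit 0x18, nat_lit 0x1a, nat_lit 0x1c,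
  nat_lit 0x1e, nat_lit 0x20, nat_lit 0x22,
  nat_lit 0x24, nat_lit 0x26, nat_lit 0x28,
  nat_lit 0x2a, nat_lit 0x2c, nat_lit 0x2e,
  nat_lit 0x30, nat_lit 0x32, nat_lit 0x34,
  nat_lit 0x36, nat_lit 0x38, nat_lit 0x3a,
  nat_lit 0x3c, nat_lit 0x3e, nat_lit 0x40,
  nat_lit 0x42, nat_lit 0x44, nat_lit 0x46,
  nat_lit 0x48, nat_lit 0x4003, nat_lit 0x4005,
  nat_lit 0x8003, nat_lit 0x8005, nat_lit 0x98003,
  nat_lit 0x98005, nat_lit 0x9c003, nat_lit 0x9c005,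
  nat_lit 0xa0003, nat_lit 0xa0005, nat_lit 0xa4003,
  nat_lit 0xa4005, nat_lit 0xa8003, nat_lit 0xa8005,
  nat_lit 0xac003, nat_lit 0xac005, nat_lit 0xb0003,
  nat_lit 0xb0005, nat_lit 0xb4003, nat_lit 0xb4005,
  nat_lit 0xb8003, nat_lit 0xb8005, nat_lit 0xbc003,
  nat_lit 0xbc005, nat_lit 0xc0003, nat_lit 0xc0005,
  nat_lit 0xc4003, nat_lit 0xc8003, nat_lit 0xc8005,
  nat_lit 0xcc003, nat_lit 0xcc005, nat_lit 0xd0003,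
  nat_lit 0xd0005, nat_lit 0xd4003, nat_lit 0xd4005,
  nat_lit 0xd8003, nat_lit 0xd8005, nat_lit 0xdc003,
  nat_lit 0xdc005, nat_lit 0xe0003, nat_lit 0xe0005,
  nat_lit 0xe4003, nat_lit 0xe8003, nat_lit 0xe8005,
  nat_lit 0xec003, nat_lit 0xec005, nat_lit 0xf0003,
  nat_lit 0xf0005, nat_lit 0xf4003, nat_lit 0xf4005,
  nat_lit 0xf8003, nat_lit 0xf8005, nat_lit 0xfc003,
  nat_lit 0xfc005, nat_lit 0x100003, nat_lit 0x100005,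
  nat_lit 0x104005, nat_lit 0x108003, nat_lit 0x108005,
  nat_lit 0x10c003, nat_lit 0x10c005, nat_lit 0x110003,
  nat_lit 0x110005, nat_lit 0x114003, nat_lit 0x114005,
  nat_lit 0x118003, nat_lit 0x118005, nat_lit 0x11c003,
  nat_lit 0x11c005, nat_lit 0x120003, nat_lit 0x124003,
  nat_lit 0x124005, nat_lit 0x128003, nat_lit 0x128005,
  nat_lit 0x12c003, nat_lit 0x12c005, nat_lit 0x130003,
  nat_lit 0x130005, nat_lit 0x134003, nat_lit 0x134005,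
  nat_lit 0x138003, nat_lit 0x138005, nat_lit 0x13c003,
  nat_lit 0x13c005, nat_lit 0x140003, nat_lit 0x140005,
  nat_lit 0x144003, nat_lit 0x144005, nat_lit 0x148003,
  nat_lit 0x148005, nat_lit 0x14c003, nat_lit 0x14c005,
  nat_lit 0x150003, nat_lit 0x150005, nat_lit 0x154003,
  nat_lit 0x154005, nat_lit 0x158003, nat_lit 0x158005,
  nat_lit 0x15c003, nat_lit 0x160003, nat_lit 0x160005,
  nat_lit 0x164003, nat_lit 0x164005, nat_lit 0x168003,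
  nat_lit 0x168005, nat_lit 0x16c003, nat_lit 0x16c005,
  nat_lit 0x170003, nat_lit 0x170005, nat_lit 0x174003,
  nat_lit 0x174005, nat_lit 0x178003, nat_lit 0x178005,
  nat_lit 0x17c003, nat_lit 0x17c005, nat_lit 0x180003,
  nat_lit 0x180005, nat_lit 0x184003, nat_lit 0x184005,
  nat_lit 0x188003, nat_lit 0x188005, nat_lit 0x18c003,
  nat_lit 0x18c005, nat_lit 0x190003, nat_lit 0x194003,
  nat_lit 0x194005, nat_lit 0x198003, nat_lit 0x198005,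
  nat_lit 0x19c003, nat_lit 0x19c005, nat_lit 0x1a0003,
  nat_lit 0x1a0005, nat_lit 0x1a4003, nat_lit 0x1a4005,
  nat_lit 0x1a8003, nat_lit 0x1a8005, nat_lit 0x1ac003,
  nat_lit 0x1ac005, nat_lit 0x1b0003, nat_lit 0x1b0005,
  nat_lit 0x1b4003, nat_lit 0x1b4005, nat_lit 0x1b8003,
  nat_lit 0x1b8005, nat_lit 0x1bc003, nat_lit 0x1bc005,
  nat_lit 0x1c0003, nat_lit 0x1c0005, nat_lit 0x1c4003,
  nat_lit 0x1c4005, nat_lit 0x1c8003, nat_lit 0x1c8005,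
  nat_lit 0x1cc003, nat_lit 0x1d0003, nat_lit 0x1d0005,
  nat_lit 0x1d4003, nat_lit 0x1d4005, nat_lit 0x1d8003,
  nat_lit 0x1d8005, nat_lit 0x1dc003, nat_lit 0x1dc005,
  nat_lit 0x1e0003, nat_lit 0x1e0005, nat_lit 0x1e4003,
  nat_lit 0x1e4005, nat_lit 0x1e8005, nat_lit 0x1ec003,
  nat_lit 0x1ec005, nat_lit 0x1f0003, nat_lit 0x1f0005,
  nat_lit 0x1f4003, nat_lit 0x1f4005, nat_lit 0x1f8003,
  nat_lit 0x1f8005, nat_lit 0x1fc003, nat_lit 0x1fc005,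
  nat_lit 0x200003, nat_lit 0x200005, nat_lit 0x204003,
  nat_lit 0x208005, nat_lit 0x20c003, nat_lit 0x20c005,
  nat_lit 0x210005, nat_lit 0x214003, nat_lit 0x214005,
  nat_lit 0x218003, nat_lit 0x218005, nat_lit 0x21c003,
  nat_lit 0x21c005, nat_lit 0x220003, nat_lit 0x220005,
  nat_lit 0x224003, nat_lit 0x224005, nat_lit 0x228003,
  nat_lit 0x228005, nat_lit 0x22c003, nat_lit 0x22c005,
  nat_lit 0x230003, nat_lit 0x230005, nat_lit 0x234003,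
  nat_lit 0x234005, nat_lit 0x238003, nat_lit 0x238005,
  nat_lit 0x23c003, nat_lit 0x23c005, nat_lit 0x240003,
  nat_lit 0x244003, nat_lit 0x244005, nat_lit 0x248003,
  nat_lit 0x24c003, nat_lit 0x24c005, nat_lit 0x250003,
  nat_lit 0x250005, nat_lit 0x254003, nat_lit 0x254005,
  nat_lit 0x258003, nat_lit 0x258005, nat_lit 0x25c003,
  nat_lit 0x25c005, nat_lit 0x260003, nat_lit 0x260005,
  nat_lit 0x264003, nat_lit 0x264005, nat_lit 0x268003,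
  nat_lit 0x26c003, nat_lit 0x270003, nat_lit 0x270005,
  nat_lit 0x274003, nat_lit 0x274005, nat_lit 0x278003,
  nat_lit 0x278005, nat_lit 0x27c003, nat_lit 0x27c005,
  nat_lit 0x280003, nat_lit 0x280005, nat_lit 0x284003,
  nat_lit 0x284005, nat_lit 0x288003, nat_lit 0x288005,
  nat_lit 0x28c003, nat_lit 0x28c005, nat_lit 0x290003,
  nat_lit 0x290005, nat_lit 0x294003, nat_lit 0x294005,
  nat_lit 0x298003, nat_lit 0x298005, nat_lit 0x29c003,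
  nat_lit 0x29c005, nat_lit 0x2a0003, nat_lit 0x2a0005,
  nat_lit 0x2a4003, nat_lit 0x2a8005, nat_lit 0x2ac003,
  nat_lit 0x2ac005, nat_lit 0x2b0003, nat_lit 0x2b0005,
  nat_lit 0x2b4003, nat_lit 0x2b4005, nat_lit 0x2b8003,
  nat_lit 0x2b8005, nat_lit 0x2bc003, nat_lit 0x2bc005,
  nat_lit 0x2c0005, nat_lit 0x2c4003, nat_lit 0x2c4005,
  nat_lit 0x2c8003, nat_lit 0x2c8005, nat_lit 0x2cc003,
  nat_lit 0x2cc005, nat_lit 0x2d0003, nat_lit 0x2d0005,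
  nat_lit 0x2d4003, nat_lit 0x2d4005, nat_lit 0x2d8003,
  nat_lit 0x2d8005, nat_lit 0x2dc003, nat_lit 0x2e0005,
  nat_lit 0x2e4003, nat_lit 0x2e4005, nat_lit 0x2e8005,
  nat_lit 0x2ec003, nat_lit 0x2ec005, nat_lit 0x2f0003,
  nat_lit 0x2f0005, nat_lit 0x2f4003, nat_lit 0x2f4005,
  nat_lit 0x2f8003, nat_lit 0x2f8005, nat_lit 0x2fc003,
  nat_lit 0x2fc005, nat_lit 0x300003, nat_lit 0x300005,
  nat_lit 0x304003, nat_lit 0x304005, nat_lit 0x308003,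
  nat_lit 0x308005, nat_lit 0x30c003, nat_lit 0x30c005,
  nat_lit 0x310003, nat_lit 0x310005, nat_lit 0x314003,
  nat_lit 0x314005, nat_lit 0x318003, nat_lit 0x31c003,
  nat_lit 0x31c005, nat_lit 0x320003, nat_lit 0x324003,
  nat_lit 0x324005, nat_lit 0x328003, nat_lit 0x328005,
  nat_lit 0x32c003, nat_lit 0x32c005, nat_lit 0x330003,
  nat_lit 0x330005, nat_lit 0x334003, nat_lit 0x334005,
  nat_lit 0x338005, nat_lit 0x33c005, nat_lit 0x340003,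
  nat_lit 0x340005, nat_lit 0x344003, nat_lit 0x348003,
  nat_lit 0x348005, nat_lit 0x34c003, nat_lit 0x34c005,
  nat_lit 0x350005, nat_lit 0x354003, nat_lit 0x354005,
  nat_lit 0x358003, nat_lit 0x358005, nat_lit 0x35c003,
  nat_lit 0x35c005, nat_lit 0x360003, nat_lit 0x360005,
  nat_lit 0x364003, nat_lit 0x364005, nat_lit 0x368005,
  nat_lit 0x36c005, nat_lit 0x370003, nat_lit 0x370005,
  nat_lit 0x374003, nat_lit 0x374005, nat_lit 0x378003,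
  nat_lit 0x37c003, nat_lit 0x37c005, nat_lit 0x380005,
  nat_lit 0x384003, nat_lit 0x384005, nat_lit 0x388003,
  nat_lit 0x388005, nat_lit 0x38c003, nat_lit 0x38c005,
  nat_lit 0x390003, nat_lit 0x390005, nat_lit 0x394005,
  nat_lit 0x398003, nat_lit 0x398005, nat_lit 0x39c003,
  nat_lit 0x39c005, nat_lit 0x3a0003, nat_lit 0x3a0005,
  nat_lit 0x3a4003, nat_lit 0x3a4005, nat_lit 0x3a8003,
  nat_lit 0x3ac005, nat_lit 0x3b0003, nat_lit 0x3b4005,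
  nat_lit 0x3b8003, nat_lit 0x3b8005, nat_lit 0x3bc005,
  nat_lit 0x3c0003, nat_lit 0x3c0005, nat_lit 0x3c4003,
  nat_lit 0x3c4005, nat_lit 0x3c8003, nat_lit 0x3c8005,
  nat_lit 0x3cc003, nat_lit 0x3cc005, nat_lit 0x3d0003,
  nat_lit 0x3d0005, nat_lit 0x3d4003, nat_lit 0x3d4005,
  nat_lit 0x3d8003, nat_lit 0x3d8005, nat_lit 0x3dc003,
  nat_lit 0x3dc005, nat_lit 0x3e0005, nat_lit 0x3e4003,
  nat_lit 0x3e4005, nat_lit 0x3e8003, nat_lit 0x3ec003,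
  nat_lit 0x3ec005, nat_lit 0x3f0003, nat_lit 0x3f0005,
  nat_lit 0x3f4003, nat_lit 0x3f4005, nat_lit 0x3f8003,
  nat_lit 0x3fc003, nat_lit 0x400003, nat_lit 0x400005,
  nat_lit 0x404003, nat_lit 0x404005, nat_lit 0x408003,
  nat_lit 0x408005, nat_lit 0x40c003, nat_lit 0x40c005,
  nat_lit 0x410003, nat_lit 0x410005, nat_lit 0x414005,
  nat_lit 0x418003, nat_lit 0x418005, nat_lit 0x41c003,
  nat_lit 0x41c005, nat_lit 0x420003, nat_lit 0x420005,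
  nat_lit 0x424003, nat_lit 0x424005, nat_lit 0x428003,
  nat_lit 0x428005, nat_lit 0x42c003, nat_lit 0x42c005,
  nat_lit 0x430003, nat_lit 0x434005, nat_lit 0x438003,
  nat_lit 0x438005, nat_lit 0x43c003, nat_lit 0x43c005,
  nat_lit 0x440003, nat_lit 0x440005, nat_lit 0x444005,
  nat_lit 0x448003, nat_lit 0x448005, nat_lit 0x44c005,
  nat_lit 0x450003, nat_lit 0x450005, nat_lit 0x454003,
  nat_lit 0x454005, nat_lit 0x458003, nat_lit 0x458005,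
  nat_lit 0x45c003, nat_lit 0x45c005, nat_lit 0x460005,
  nat_lit 0x464003, nat_lit 0x464005, nat_lit 0x468003,
  nat_lit 0x46c005, nat_lit 0x470003, nat_lit 0x474005,
  nat_lit 0x478003, nat_lit 0x478005, nat_lit 0x47c003,
  nat_lit 0x480003, nat_lit 0x480005, nat_lit 0x484003,
  nat_lit 0x488003, nat_lit 0x488005, nat_lit 0x48c003,
  nat_lit 0x48c005, nat_lit 0x490003, nat_lit 0x490005,
  nat_lit 0x494003, nat_lit 0x494005, nat_lit 0x498003,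
  nat_lit 0x498005, nat_lit 0x49c003, nat_lit 0x49c005,
  nat_lit 0x4a0003, nat_lit 0x4a4003, nat_lit 0x4a4005,
  nat_lit 0x4a8003, nat_lit 0x4ac003, nat_lit 0x4ac005,
  nat_lit 0x4b0003, nat_lit 0x4b0005, nat_lit 0x4b4003,
  nat_lit 0x4b4005, nat_lit 0x4b8003, nat_lit 0x4b8005,
  nat_lit 0x4bc003, nat_lit 0x4bc005, nat_lit 0x4c0005,
  nat_lit 0x4c4005, nat_lit 0x4c8003, nat_lit 0x4c8005,
  nat_lit 0x4cc003, nat_lit 0x4d0003, nat_lit 0x4d0005,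
  nat_lit 0x4d4003, nat_lit 0x4d4005, nat_lit 0x4d8005,
  nat_lit 0x4dc003, nat_lit 0x4dc005, nat_lit 0x4e0003,
  nat_lit 0x4e0005, nat_lit 0x4e4003, nat_lit 0x4e4005,
  nat_lit 0x4e8003, nat_lit 0x4e8005, nat_lit 0x4ec003,
  nat_lit 0x4ec005, nat_lit 0x4f0005, nat_lit 0x4f4005,
  nat_lit 0x4f8003, nat_lit 0x4f8005, nat_lit 0x4fc003,
  nat_lit 0x4fc005, nat_lit 0x500003, nat_lit 0x504003,
  nat_lit 0x504005, nat_lit 0x508005, nat_lit 0x50c003,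
  nat_lit 0x50c005, nat_lit 0x510003, nat_lit 0x510005,
  nat_lit 0x514003, nat_lit 0x514005, nat_lit 0x518003,
  nat_lit 0x518005, nat_lit 0x51c005, nat_lit 0x520003,
  nat_lit 0x520005, nat_lit 0x524003, nat_lit 0x524005,
  nat_lit 0x528003, nat_lit 0x528005, nat_lit 0x52c003,
  nat_lit 0x52c005, nat_lit 0x530003, nat_lit 0x534005,
  nat_lit 0x538003, nat_lit 0x53c005, nat_lit 0x540003,
  nat_lit 0x544005, nat_lit 0x548003, nat_lit 0x548005,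
  nat_lit 0x54c003, nat_lit 0x54c005, nat_lit 0x550003,
  nat_lit 0x550005, nat_lit 0x554003, nat_lit 0x554005,
  nat_lit 0x558003, nat_lit 0x558005, nat_lit 0x55c003,
  nat_lit 0x55c005, nat_lit 0x560003, nat_lit 0x560005,
  nat_lit 0x564003, nat_lit 0x564005, nat_lit 0x568005,
  nat_lit 0x56c003, nat_lit 0x56c005, nat_lit 0x570003,
  nat_lit 0x574005, nat_lit 0x578003, nat_lit 0x578005,
  nat_lit 0x57c003, nat_lit 0x580005, nat_lit 0x584003,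
  nat_lit 0x584005, nat_lit 0x588003, nat_lit 0x58c003,
  nat_lit 0x58c005, nat_lit 0x590003, nat_lit 0x590005,
  nat_lit 0x594003, nat_lit 0x594005, nat_lit 0x598003,
  nat_lit 0x598005, nat_lit 0x59c003, nat_lit 0x59c005,
  nat_lit 0x5a0003, nat_lit 0x5a0005, nat_lit 0x5a4003,
  nat_lit 0x5a8003, nat_lit 0x5a8005, nat_lit 0x5ac003,
  nat_lit 0x5ac005, nat_lit 0x5b0003, nat_lit 0x5b0005,
  nat_lit 0x5b4003, nat_lit 0x5b4005, nat_lit 0x5bc005,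
  nat_lit 0x5c0005, nat_lit 0x5c4003, nat_lit 0x5c4005,
  nat_lit 0x5c8003, nat_lit 0x5cc003, nat_lit 0x5cc005,
  nat_lit 0x5d0003, nat_lit 0x5d0005, nat_lit 0x5d4003,
  nat_lit 0x5d4005, nat_lit 0x5d8003, nat_lit 0x5d8005,
  nat_lit 0x5dc003, nat_lit 0x5dc005, nat_lit 0x5e0003,
  nat_lit 0x5e4005, nat_lit 0x5e8003, nat_lit 0x5e8005,
  nat_lit 0x5ec003, nat_lit 0x5ec005, nat_lit 0x5f0003,
  nat_lit 0x5f0005, nat_lit 0x5f4003, nat_lit 0x5f4005,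
  nat_lit 0x5f8003, nat_lit 0x5f8005, nat_lit 0x5fc003,
  nat_lit 0x5fc005, nat_lit 0x600003, nat_lit 0x600005,
  nat_lit 0x604003, nat_lit 0x604005, nat_lit 0x608003,
  nat_lit 0x608005, nat_lit 0x60c003, nat_lit 0x60c005,
  nat_lit 0x614003, nat_lit 0x614005, nat_lit 0x61c003,
  nat_lit 0x61c005, nat_lit 0x620003, nat_lit 0x624003,
  nat_lit 0x624005, nat_lit 0x628003, nat_lit 0x62c003,
  nat_lit 0x630005, nat_lit 0x634005, nat_lit 0x638003,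
  nat_lit 0x638005, nat_lit 0x63c003, nat_lit 0x640003,
  nat_lit 0x640005, nat_lit 0x644003, nat_lit 0x644005,
  nat_lit 0x648005, nat_lit 0x64c003, nat_lit 0x650005,
  nat_lit 0x654003, nat_lit 0x654005, nat_lit 0x658005,
  nat_lit 0x65c005, nat_lit 0x660003, nat_lit 0x664003,
  nat_lit 0x664005, nat_lit 0x668003, nat_lit 0x66c003,
  nat_lit 0x66c005, nat_lit 0x670005, nat_lit 0x674005,
  nat_lit 0x678003, nat_lit 0x678005, nat_lit 0x67c003,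
  nat_lit 0x67c005, nat_lit 0x680005, nat_lit 0x684005,
  nat_lit 0x68c003, nat_lit 0x68c005, nat_lit 0x690003,
  nat_lit 0x694003, nat_lit 0x694005, nat_lit 0x6a0003,
  nat_lit 0x6a0005, nat_lit 0x6a4003, nat_lit 0x6a4005,
  nat_lit 0x6a8003, nat_lit 0x6a8005, nat_lit 0x6ac003,
  nat_lit 0x6ac005, nat_lit 0x6b0003, nat_lit 0x6b0005,
  nat_lit 0x6b4003, nat_lit 0x6b8003, nat_lit 0x6b8005,
  nat_lit 0x6bc003, nat_lit 0x6bc005, nat_lit 0x6c0003,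
  nat_lit 0x6c0005, nat_lit 0x6c4003, nat_lit 0x6c4005,
  nat_lit 0x6c8003, nat_lit 0x6c8005, nat_lit 0x6cc005,
  nat_lit 0x6d0003, nat_lit 0x6d0005, nat_lit 0x6d4003,
  nat_lit 0x6d8003, nat_lit 0x6d8005, nat_lit 0x6dc003,
  nat_lit 0x6dc005, nat_lit 0x6e0003, nat_lit 0x6e0005,
  nat_lit 0x6e4003, nat_lit 0x6e4005, nat_lit 0x6ec005,
  nat_lit 0x6f0005, nat_lit 0x6f4003, nat_lit 0x6f4005,
  nat_lit 0x6f8003, nat_lit 0x6f8005, nat_lit 0x6fc003,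
  nat_lit 0x6fc005, nat_lit 0x700005, nat_lit 0x704003,
  nat_lit 0x704005, nat_lit 0x708003, nat_lit 0x708005,
  nat_lit 0x70c005, nat_lit 0x710003, nat_lit 0x710005,
  nat_lit 0x714003, nat_lit 0x718005, nat_lit 0x71c003,
  nat_lit 0x720005, nat_lit 0x724003, nat_lit 0x724005,
  nat_lit 0x728003, nat_lit 0x72c003, nat_lit 0x72c005,
  nat_lit 0x730003, nat_lit 0x734003, nat_lit 0x734005,
  nat_lit 0x738003, nat_lit 0x738005, nat_lit 0x73c003,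
  nat_lit 0x73c005, nat_lit 0x740003, nat_lit 0x740005,
  nat_lit 0x744003, nat_lit 0x744005, nat_lit 0x748003,
  nat_lit 0x748005, nat_lit 0x74c003, nat_lit 0x750003,
  nat_lit 0x754003, nat_lit 0x754005, nat_lit 0x758003,
  nat_lit 0x758005, nat_lit 0x75c003, nat_lit 0x75c005,
  nat_lit 0x760003, nat_lit 0x760005, nat_lit 0x764003,
  nat_lit 0x764005, nat_lit 0x768005, nat_lit 0x770003,
  nat_lit 0x770005, nat_lit 0x774003, nat_lit 0x778003,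
  nat_lit 0x77c003, nat_lit 0x77c005, nat_lit 0x780003,
  nat_lit 0x780005, nat_lit 0x784003, nat_lit 0x784005,
  nat_lit 0x788003, nat_lit 0x788005, nat_lit 0x78c003,
  nat_lit 0x78c005, nat_lit 0x790003, nat_lit 0x794005,
  nat_lit 0x798003, nat_lit 0x798005, nat_lit 0x79c003,
  nat_lit 0x79c005, nat_lit 0x7a0003, nat_lit 0x7a4003,
  nat_lit 0x7a4005, nat_lit 0x7a8003, nat_lit 0x7a8005,
  nat_lit 0x7ac003, nat_lit 0x7ac005, nat_lit 0x7b0003,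
  nat_lit 0x7b0005, nat_lit 0x7b4003, nat_lit 0x7b4005,
  nat_lit 0x7b8003, nat_lit 0x7b8005, nat_lit 0x7bc003,
  nat_lit 0x7bc005, nat_lit 0x7c0003, nat_lit 0x7c4005,
  nat_lit 0x7c8003, nat_lit 0x7d0003, nat_lit 0x7d4005,
  nat_lit 0x7d8003, nat_lit 0x7d8005, nat_lit 0x7dc003,
  nat_lit 0x7dc005, nat_lit 0x7e0003, nat_lit 0x7e0005,
  nat_lit 0x7e4003, nat_lit 0x7e4005, nat_lit 0x7e8003,
  nat_lit 0x7e8005, nat_lit 0x7ec003, nat_lit 0x7ec005,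
  nat_lit 0x7f0003, nat_lit 0x7f0005, nat_lit 0x7f4003,
  nat_lit 0x7f4005, nat_lit 0x7f8005, nat_lit 0x7fc003,
  nat_lit 0x7fc005, nat_lit 0x800003, nat_lit 0x804005,
  nat_lit 0x808003, nat_lit 0x808005, nat_lit 0x80c003,
  nat_lit 0x810005, nat_lit 0x814003, nat_lit 0x814005,
  nat_lit 0x81c003, nat_lit 0x81c005, nat_lit 0x820003,
  nat_lit 0x820005, nat_lit 0x824003, nat_lit 0x824005,
  nat_lit 0x828003, nat_lit 0x828005, nat_lit 0x82c003,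
  nat_lit 0x82c005, nat_lit 0x830003, nat_lit 0x830005,
  nat_lit 0x834003, nat_lit 0x838003, nat_lit 0x838005,
  nat_lit 0x83c003, nat_lit 0x83c005, nat_lit 0x840003,
  nat_lit 0x840005, nat_lit 0x844003, nat_lit 0x844005,
  nat_lit 0x84c005, nat_lit 0x850005, nat_lit 0x854003,
  nat_lit 0x854005, nat_lit 0x858003, nat_lit 0x85c003,
  nat_lit 0x85c005, nat_lit 0x860003, nat_lit 0x860005,
  nat_lit 0x864005, nat_lit 0x868003, nat_lit 0x868005,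
  nat_lit 0x86c003, nat_lit 0x86c005, nat_lit 0x870003,
  nat_lit 0x874005, nat_lit 0x878003, nat_lit 0x878005,
  nat_lit 0x87c005, nat_lit 0x880003, nat_lit 0x880005,
  nat_lit 0x884003, nat_lit 0x884005, nat_lit 0x888003,
  nat_lit 0x888005, nat_lit 0x88c003, nat_lit 0x88c005,
  nat_lit 0x890003, nat_lit 0x890005, nat_lit 0x894003,
  nat_lit 0x894005, nat_lit 0x898003, nat_lit 0x898005,
  nat_lit 0x89c003, nat_lit 0x89c005, nat_lit 0x8a4003,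
  nat_lit 0x8a4005, nat_lit 0x8ac003, nat_lit 0x8b0003,
  nat_lit 0x8b4003, nat_lit 0x8b4005, nat_lit 0x8b8003,
  nat_lit 0x8c0005, nat_lit 0x8c4005, nat_lit 0x8c8003,
  nat_lit 0x8c8005, nat_lit 0x8cc003, nat_lit 0x8d0003,
  nat_lit 0x8d0005, nat_lit 0x8d4003, nat_lit 0x8d4005,
  nat_lit 0x8d8005, nat_lit 0x8dc003, nat_lit 0x8e0005,
  nat_lit 0x8e4003, nat_lit 0x8e4005, nat_lit 0x8e8005,
  nat_lit 0x8ec003, nat_lit 0x8f0003, nat_lit 0x8f0005,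
  nat_lit 0x8f4003, nat_lit 0x8f8003, nat_lit 0x8f8005,
  nat_lit 0x8fc005, nat_lit 0x904003, nat_lit 0x904005,
  nat_lit 0x908003, nat_lit 0x908005, nat_lit 0x90c005,
  nat_lit 0x910005, nat_lit 0x918003, nat_lit 0x918005,
  nat_lit 0x91c003, nat_lit 0x920003, nat_lit 0x920005,
  nat_lit 0x92c003, nat_lit 0x92c005, nat_lit 0x930005,
  nat_lit 0x934003, nat_lit 0x934005, nat_lit 0x938003,
  nat_lit 0x938005, nat_lit 0x93c003, nat_lit 0x93c005,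
  nat_lit 0x940003, nat_lit 0x940005, nat_lit 0x944003,
  nat_lit 0x944005, nat_lit 0x948003, nat_lit 0x94c003,
  nat_lit 0x950003, nat_lit 0x954003, nat_lit 0x954005,
  nat_lit 0x958003, nat_lit 0x958005, nat_lit 0x95c005,
  nat_lit 0x960003, nat_lit 0x960005, nat_lit 0x964003,
  nat_lit 0x964005, nat_lit 0x968003, nat_lit 0x968005,
  nat_lit 0x96c003, nat_lit 0x974003, nat_lit 0x974005,
  nat_lit 0x978003, nat_lit 0x978005, nat_lit 0x97c003,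
  nat_lit 0x97c005, nat_lit 0x980005, nat_lit 0x984005,
  nat_lit 0x98c003, nat_lit 0x98c005, nat_lit 0x990003,
  nat_lit 0x990005, nat_lit 0x994003, nat_lit 0x994005,
  nat_lit 0x998005, nat_lit 0x99c003, nat_lit 0x99c005,
  nat_lit 0x9a0003, nat_lit 0x9a4005, nat_lit 0x9a8003,
  nat_lit 0x9ac003, nat_lit 0x9b0003, nat_lit 0x9b0005,
  nat_lit 0x9b4003]

theorem ckA0 : chkL ruleA AL0 (nat_lit 1001) ceA0 (nat_lit 1) = true := by decide +kernel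

def ceA1 : List ℕ :=
 [nat_lit 0x9b4005, nat_lit 0x9b8003, nat_lit 0x9bc003,
  nat_lit 0x9bc005, nat_lit 0x9c0003, nat_lit 0x9c0005,
  nat_lit 0x9c4003, nat_lit 0x9c4005, nat_lit 0x9c8005,
  nat_lit 0x9cc003, nat_lit 0x9d0003, nat_lit 0x9d0005,
  nat_lit 0x9d4003, nat_lit 0x9d4005, nat_lit 0x9dc005,
  nat_lit 0x9e0003, nat_lit 0x9e0005, nat_lit 0x9e4003,
  nat_lit 0x9e8005, nat_lit 0x9ec003, nat_lit 0x9ec005,
  nat_lit 0x9f0003, nat_lit 0x9f0005, nat_lit 0x9f4003,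
  nat_lit 0x9f4005, nat_lit 0x9f8003, nat_lit 0x9fc003,
  nat_lit 0xa00003, nat_lit 0xa00005, nat_lit 0xa04005,
  nat_lit 0xa08003, nat_lit 0xa0c003, nat_lit 0xa0c005,
  nat_lit 0xa10005, nat_lit 0xa18005, nat_lit 0xa1c003,
  nat_lit 0xa1c005, nat_lit 0xa20003, nat_lit 0xa20005,
  nat_lit 0xa24003, nat_lit 0xa24005, nat_lit 0xa28005,
  nat_lit 0xa2c003, nat_lit 0xa30005, nat_lit 0xa34003,
  nat_lit 0xa38005, nat_lit 0xa3c003, nat_lit 0xa3c005,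
  nat_lit 0xa44005, nat_lit 0xa48003, nat_lit 0xa4c003,
  nat_lit 0xa4c005, nat_lit 0xa50003, nat_lit 0xa50005,
  nat_lit 0xa54005, nat_lit 0xa58003, nat_lit 0xa5c005,
  nat_lit 0xa60003, nat_lit 0xa64003, nat_lit 0xa68003,
  nat_lit 0xa6c003, nat_lit 0xa6c005, nat_lit 0xa70003,
  nat_lit 0xa70005, nat_lit 0xa74005, nat_lit 0xa78005,
  nat_lit 0xa7c003, nat_lit 0xa7c005, nat_lit 0xa80003,
  nat_lit 0xa80005, nat_lit 0xa88003, nat_lit 0xa88005,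
  nat_lit 0xa8c003, nat_lit 0xa8c005, nat_lit 0xa90003,
  nat_lit 0xa90005, nat_lit 0xa94003, nat_lit 0xa94005,
  nat_lit 0xa98003, nat_lit 0xa98005, nat_lit 0xa9c005,
  nat_lit 0xaa0003, nat_lit 0xaa0005, nat_lit 0xaa4003,
  nat_lit 0xaa4005, nat_lit 0xaac005, nat_lit 0xab0003,
  nat_lit 0xab0005, nat_lit 0xab4003, nat_lit 0xab4005,
  nat_lit 0xab8003, nat_lit 0xab8005, nat_lit 0xabc003,
  nat_lit 0xabc005, nat_lit 0xac0003, nat_lit 0xac0005,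
  nat_lit 0xac4003, nat_lit 0xac8003, nat_lit 0xac8005,
  nat_lit 0xacc003, nat_lit 0xacc005, nat_lit 0xad4003,
  nat_lit 0xad4005, nat_lit 0xadc003, nat_lit 0xae0003,
  nat_lit 0xae0005, nat_lit 0xae4005, nat_lit 0xae8005,
  nat_lit 0xaec003, nat_lit 0xaec005, nat_lit 0xaf0003,
  nat_lit 0xaf0005, nat_lit 0xaf4003, nat_lit 0xaf4005,
  nat_lit 0xb00003, nat_lit 0xb00005, nat_lit 0xb04003,
  nat_lit 0xb08003, nat_lit 0xb08005, nat_lit 0xb0c005,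
  nat_lit 0xb10005, nat_lit 0xb14005, nat_lit 0xb18003,
  nat_lit 0xb18005, nat_lit 0xb20003, nat_lit 0xb20005,
  nat_lit 0xb24003, nat_lit 0xb2c003, nat_lit 0xb2c005,
  nat_lit 0xb30003, nat_lit 0xb30005, nat_lit 0xb34003,
  nat_lit 0xb34005, nat_lit 0xb3c005, nat_lit 0xb44003,
  nat_lit 0xb44005, nat_lit 0xb48003, nat_lit 0xb48005,
  nat_lit 0xb4c003, nat_lit 0xb4c005, nat_lit 0xb50005,
  nat_lit 0xb54005, nat_lit 0xb58005, nat_lit 0xb5c003,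
  nat_lit 0xb5c005, nat_lit 0xb60003, nat_lit 0xb64005,
  nat_lit 0xb68003, nat_lit 0xb6c005, nat_lit 0xb70003,
  nat_lit 0xb70005, nat_lit 0xb74003, nat_lit 0xb78003,
  nat_lit 0xb78005, nat_lit 0xb7c003, nat_lit 0xb7c005,
  nat_lit 0xb80003, nat_lit 0xb80005, nat_lit 0xb84003,
  nat_lit 0xb84005, nat_lit 0xb88003, nat_lit 0xb88005,
  nat_lit 0xb8c003, nat_lit 0xb90003, nat_lit 0xb94005,
  nat_lit 0xb98003, nat_lit 0xb98005, nat_lit 0xb9c003,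
  nat_lit 0xb9c005, nat_lit 0xba0003, nat_lit 0xba0005,
  nat_lit 0xba4003, nat_lit 0xba4005, nat_lit 0xba8003,
  nat_lit 0xbac005, nat_lit 0xbb0003, nat_lit 0xbb0005,
  nat_lit 0xbb4003, nat_lit 0xbb4005, nat_lit 0xbb8003,
  nat_lit 0xbb8005, nat_lit 0xbbc003, nat_lit 0xbbc005,
  nat_lit 0xbc0003, nat_lit 0xbc8003, nat_lit 0xbc8005,
  nat_lit 0xbcc003, nat_lit 0xbcc005, nat_lit 0xbd0003,
  nat_lit 0xbd4003, nat_lit 0xbd4005, nat_lit 0xbd8003,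
  nat_lit 0xbd8005, nat_lit 0xbdc003, nat_lit 0xbdc005,
  nat_lit 0xbe0003, nat_lit 0xbe0005, nat_lit 0xbe4003,
  nat_lit 0xbe4005, nat_lit 0xbec003, nat_lit 0xbec005,
  nat_lit 0xbf0003, nat_lit 0xbf4005, nat_lit 0xbf8003,
  nat_lit 0xc00003, nat_lit 0xc04005, nat_lit 0xc08003,
  nat_lit 0xc08005, nat_lit 0xc0c003, nat_lit 0xc0c005,
  nat_lit 0xc10003, nat_lit 0xc10005, nat_lit 0xc14003,
  nat_lit 0xc14005, nat_lit 0xc18003, nat_lit 0xc18005,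
  nat_lit 0xc1c003, nat_lit 0xc1c005, nat_lit 0xc20005,
  nat_lit 0xc24003, nat_lit 0xc24005, nat_lit 0xc2c005,
  nat_lit 0xc30003, nat_lit 0xc34003, nat_lit 0xc38005,
  nat_lit 0xc3c003, nat_lit 0xc3c005, nat_lit 0xc44003,
  nat_lit 0xc44005, nat_lit 0xc48003, nat_lit 0xc48005,
  nat_lit 0xc4c005, nat_lit 0xc50003, nat_lit 0xc50005,
  nat_lit 0xc54003, nat_lit 0xc54005, nat_lit 0xc58003,
  nat_lit 0xc58005, nat_lit 0xc5c003, nat_lit 0xc5c005,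
  nat_lit 0xc60003, nat_lit 0xc60005, nat_lit 0xc68005,
  nat_lit 0xc6c005, nat_lit 0xc70003, nat_lit 0xc70005,
  nat_lit 0xc74003, nat_lit 0xc78003, nat_lit 0xc78005,
  nat_lit 0xc80005, nat_lit 0xc84003, nat_lit 0xc84005,
  nat_lit 0xc88005, nat_lit 0xc8c003, nat_lit 0xc8c005,
  nat_lit 0xc90005, nat_lit 0xc94003, nat_lit 0xc94005,
  nat_lit 0xc98003, nat_lit 0xc98005, nat_lit 0xca0003,
  nat_lit 0xca0005, nat_lit 0xca4003, nat_lit 0xca4005,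
  nat_lit 0xca8003, nat_lit 0xca8005, nat_lit 0xcac003,
  nat_lit 0xcac005, nat_lit 0xcb4003, nat_lit 0xcb4005,
  nat_lit 0xcbc005, nat_lit 0xcc0005, nat_lit 0xcc4003,
  nat_lit 0xcc4005, nat_lit 0xcc8003, nat_lit 0xccc003,
  nat_lit 0xccc005, nat_lit 0xcd0003, nat_lit 0xcd0005,
  nat_lit 0xcd4005, nat_lit 0xcd8003, nat_lit 0xcdc005,
  nat_lit 0xce0005, nat_lit 0xce4003, nat_lit 0xce8003,
  nat_lit 0xce8005, nat_lit 0xcec003, nat_lit 0xcf0005,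
  nat_lit 0xcf4005, nat_lit 0xcfc003, nat_lit 0xcfc005,
  nat_lit 0xd00003, nat_lit 0xd04005, nat_lit 0xd08005,
  nat_lit 0xd10003, nat_lit 0xd10005, nat_lit 0xd14003,
  nat_lit 0xd18003, nat_lit 0xd18005, nat_lit 0xd24003,
  nat_lit 0xd28005, nat_lit 0xd2c003, nat_lit 0xd2c005,
  nat_lit 0xd30005, nat_lit 0xd34003, nat_lit 0xd38003,
  nat_lit 0xd38005, nat_lit 0xd3c003, nat_lit 0xd3c005,
  nat_lit 0xd40003, nat_lit 0xd44003, nat_lit 0xd48003,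
  nat_lit 0xd4c003, nat_lit 0xd4c005, nat_lit 0xd50003,
  nat_lit 0xd50005, nat_lit 0xd54003, nat_lit 0xd54005,
  nat_lit 0xd58003, nat_lit 0xd5c003, nat_lit 0xd5c005,
  nat_lit 0xd60003, nat_lit 0xd68003, nat_lit 0xd68005,
  nat_lit 0xd6c003, nat_lit 0xd6c005, nat_lit 0xd70003,
  nat_lit 0xd70005, nat_lit 0xd74005, nat_lit 0xd80003,
  nat_lit 0xd80005, nat_lit 0xd84003, nat_lit 0xd84005,
  nat_lit 0xd88003, nat_lit 0xd8c005, nat_lit 0xd90003,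
  nat_lit 0xd90005, nat_lit 0xd94003, nat_lit 0xd98005,
  nat_lit 0xd9c003, nat_lit 0xda0003, nat_lit 0xda4005,
  nat_lit 0xda8003, nat_lit 0xda8005, nat_lit 0xdac003,
  nat_lit 0xdb0003, nat_lit 0xdb0005, nat_lit 0xdb4003,
  nat_lit 0xdb4005, nat_lit 0xdb8003, nat_lit 0xdb8005,
  nat_lit 0xdbc005, nat_lit 0xdc0003, nat_lit 0xdc4003,
  nat_lit 0xdc4005, nat_lit 0xdc8003, nat_lit 0xdc8005,
  nat_lit 0xdcc005, nat_lit 0xdd0003, nat_lit 0xdd0005,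
  nat_lit 0xdd4003, nat_lit 0xdd8005, nat_lit 0xddc003,
  nat_lit 0xde0003, nat_lit 0xde4003, nat_lit 0xde4005,
  nat_lit 0xde8003, nat_lit 0xdec003, nat_lit 0xdf0005,
  nat_lit 0xdf4003, nat_lit 0xdf8003, nat_lit 0xdf8005,
  nat_lit 0xdfc005, nat_lit 0xe04005, nat_lit 0xe08003,
  nat_lit 0xe08005, nat_lit 0xe0c003, nat_lit 0xe14005,
  nat_lit 0xe18003, nat_lit 0xe1c005, nat_lit 0xe20003,
  nat_lit 0xe28003, nat_lit 0xe28005, nat_lit 0xe30005,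
  nat_lit 0xe34003, nat_lit 0xe38003, nat_lit 0xe38005,
  nat_lit 0xe3c003, nat_lit 0xe3c005, nat_lit 0xe44005,
  nat_lit 0xe48003, nat_lit 0xe4c003, nat_lit 0xe50003,
  nat_lit 0xe50005, nat_lit 0xe54003, nat_lit 0xe5c005,
  nat_lit 0xe60003, nat_lit 0xe60005, nat_lit 0xe64003,
  nat_lit 0xe64005, nat_lit 0xe6c003, nat_lit 0xe70003,
  nat_lit 0xe70005, nat_lit 0xe74003, nat_lit 0xe74005,
  nat_lit 0xe78003, nat_lit 0xe78005, nat_lit 0xe7c003,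
  nat_lit 0xe7c005, nat_lit 0xe84003, nat_lit 0xe84005,
  nat_lit 0xe88003, nat_lit 0xe88005, nat_lit 0xe8c005,
  nat_lit 0xe90003, nat_lit 0xe90005, nat_lit 0xe94005,
  nat_lit 0xe98003, nat_lit 0xe98005, nat_lit 0xe9c003,
  nat_lit 0xea0003, nat_lit 0xea4003, nat_lit 0xea8003,
  nat_lit 0xeb0003, nat_lit 0xeb0005, nat_lit 0xeb8003,
  nat_lit 0xebc003, nat_lit 0xebc005, nat_lit 0xec0005,
  nat_lit 0xec8003, nat_lit 0xecc003, nat_lit 0xecc005,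
  nat_lit 0xed0005, nat_lit 0xedc003, nat_lit 0xee0005,
  nat_lit 0xee4005, nat_lit 0xee8005, nat_lit 0xeec005,
  nat_lit 0xef0005, nat_lit 0xef8003, nat_lit 0xefc003,
  nat_lit 0xefc005, nat_lit 0xf00003, nat_lit 0xf00005,
  nat_lit 0xf04005, nat_lit 0xf0c005, nat_lit 0xf10003,
  nat_lit 0xf18005, nat_lit 0xf20005, nat_lit 0xf24003,
  nat_lit 0xf28005, nat_lit 0xf2c005, nat_lit 0xf30005,
  nat_lit 0xf34003, nat_lit 0xf38003, nat_lit 0xf3c003,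
  nat_lit 0xf3c005, nat_lit 0xf44003, nat_lit 0xf4c003,
  nat_lit 0xf4c005, nat_lit 0xf50003, nat_lit 0xf54003,
  nat_lit 0xf54005, nat_lit 0xf58003, nat_lit 0xf5c003,
  nat_lit 0xf60003, nat_lit 0xf64005, nat_lit 0xf6c005,
  nat_lit 0xf74003, nat_lit 0xf78003, nat_lit 0xf78005,
  nat_lit 0xf7c003, nat_lit 0xf80005, nat_lit 0xf84003,
  nat_lit 0xf84005, nat_lit 0xf88003, nat_lit 0xf88005,
  nat_lit 0xf8c003, nat_lit 0xf8c005, nat_lit 0xf90003,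
  nat_lit 0xf90005, nat_lit 0xf98003, nat_lit 0xf9c005,
  nat_lit 0xfa0005, nat_lit 0xfa4003, nat_lit 0xfa8005,
  nat_lit 0xfb0003, nat_lit 0xfb4005, nat_lit 0xfb8003,
  nat_lit 0xfbc003, nat_lit 0xfbc005, nat_lit 0xfc0005,
  nat_lit 0xfc4005, nat_lit 0xfc8003, nat_lit 0xfcc003,
  nat_lit 0xfcc005, nat_lit 0xfd4003, nat_lit 0xfd4005,
  nat_lit 0xfd8003, nat_lit 0xfdc003, nat_lit 0xfdc005,
  nat_lit 0xfe0003, nat_lit 0xfe0005, nat_lit 0xfe4003,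
  nat_lit 0xfe4005, nat_lit 0xfe8003, nat_lit 0xfe8005,
  nat_lit 0xfec003, nat_lit 0xfec005, nat_lit 0xff0003,
  nat_lit 0xff8003, nat_lit 0xff8005, nat_lit 0xffc003,
  nat_lit 0x1000005, nat_lit 0x1004003, nat_lit 0x1004005,
  nat_lit 0x1008005, nat_lit 0x100c003, nat_lit 0x100c005,
  nat_lit 0x1010005, nat_lit 0x101c003, nat_lit 0x101c005,
  nat_lit 0x1020005, nat_lit 0x102c003, nat_lit 0x102c005,
  nat_lit 0x1030003, nat_lit 0x103c005, nat_lit 0x1040003,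
  nat_lit 0x1040005, nat_lit 0x1044003, nat_lit 0x1048003,
  nat_lit 0x1050003, nat_lit 0x1054005, nat_lit 0x105c003,
  nat_lit 0x105c005, nat_lit 0x1060003, nat_lit 0x1064003,
  nat_lit 0x1064005, nat_lit 0x1068005, nat_lit 0x106c003,
  nat_lit 0x106c005, nat_lit 0x1078005, nat_lit 0x107c005,
  nat_lit 0x1088005, nat_lit 0x108c003, nat_lit 0x1090005,
  nat_lit 0x1094005, nat_lit 0x1098003, nat_lit 0x1098005,
  nat_lit 0x109c003, nat_lit 0x10a0003, nat_lit 0x10a4003,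
  nat_lit 0x10a4005, nat_lit 0x10a8003, nat_lit 0x10ac005,
  nat_lit 0x10c0005, nat_lit 0x10c4003, nat_lit 0x10c4005,
  nat_lit 0x10d0003, nat_lit 0x10d4003, nat_lit 0x10d4005,
  nat_lit 0x10d8003, nat_lit 0x10dc003, nat_lit 0x10dc005,
  nat_lit 0x10e0003, nat_lit 0x10e0005, nat_lit 0x10e4005,
  nat_lit 0x10e8003, nat_lit 0x10e8005, nat_lit 0x10f4003,
  nat_lit 0x10f4005, nat_lit 0x10f8005, nat_lit 0x1100005,
  nat_lit 0x1104003, nat_lit 0x1108003, nat_lit 0x1108005,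
  nat_lit 0x110c005, nat_lit 0x1118003, nat_lit 0x1118005,
  nat_lit 0x111c005, nat_lit 0x1120005, nat_lit 0x1124005,
  nat_lit 0x1128005, nat_lit 0x112c003, nat_lit 0x112c005,
  nat_lit 0x1134005, nat_lit 0x1138003, nat_lit 0x113c003,
  nat_lit 0x113c005, nat_lit 0x1140003, nat_lit 0x1148003,
  nat_lit 0x114c003, nat_lit 0x114c005, nat_lit 0x1150005,
  nat_lit 0x1154005, nat_lit 0x115c005, nat_lit 0x1164003,
  nat_lit 0x1168005, nat_lit 0x116c005, nat_lit 0x1170003,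
  nat_lit 0x1170005, nat_lit 0x1174003, nat_lit 0x1174005,
  nat_lit 0x1178003, nat_lit 0x117c005, nat_lit 0x1184003,
  nat_lit 0x1184005, nat_lit 0x118c003, nat_lit 0x118c005,
  nat_lit 0x1194005, nat_lit 0x1198005, nat_lit 0x119c005,
  nat_lit 0x11a0005, nat_lit 0x11a4003, nat_lit 0x11ac003,
  nat_lit 0x11ac005, nat_lit 0x11b0003, nat_lit 0x11b4003,
  nat_lit 0x11b4005, nat_lit 0x11b8003, nat_lit 0x11b8005,
  nat_lit 0x11bc003, nat_lit 0x11bc005, nat_lit 0x11c0005,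
  nat_lit 0x11c8003, nat_lit 0x11cc005, nat_lit 0x11d0003,
  nat_lit 0x11d0005, nat_lit 0x11d4003, nat_lit 0x11d4005,
  nat_lit 0x11d8003, nat_lit 0x11d8005, nat_lit 0x11e0003,
  nat_lit 0x11e0005, nat_lit 0x11e4003, nat_lit 0x11e4005,
  nat_lit 0x11e8005, nat_lit 0x11ec003, nat_lit 0x11f4003,
  nat_lit 0x11f4005, nat_lit 0x11f8003, nat_lit 0x11f8005,
  nat_lit 0x11fc003, nat_lit 0x1200003, nat_lit 0x1200005,
  nat_lit 0x1204005, nat_lit 0x1208003, nat_lit 0x120c003,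
  nat_lit 0x120c005, nat_lit 0x1214005, nat_lit 0x1218003,
  nat_lit 0x1220003, nat_lit 0x1224005, nat_lit 0x1228003,
  nat_lit 0x1228005, nat_lit 0x122c003, nat_lit 0x122c005,
  nat_lit 0x1230003, nat_lit 0x1230005, nat_lit 0x1234005,
  nat_lit 0x1238003, nat_lit 0x1238005, nat_lit 0x1240005,
  nat_lit 0x1244003, nat_lit 0x1248003, nat_lit 0x1250003,
  nat_lit 0x1258003, nat_lit 0x1258005, nat_lit 0x125c003,
  nat_lit 0x125c005, nat_lit 0x1270003, nat_lit 0x1270005,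
  nat_lit 0x1274003, nat_lit 0x1278003, nat_lit 0x1278005,
  nat_lit 0x1280005, nat_lit 0x1284005, nat_lit 0x1288003,
  nat_lit 0x1288005, nat_lit 0x128c005, nat_lit 0x1290003,
  nat_lit 0x1290005, nat_lit 0x1294003, nat_lit 0x1294005,
  nat_lit 0x129c003, nat_lit 0x129c005, nat_lit 0x12a0005,
  nat_lit 0x12a4003, nat_lit 0x12a4005, nat_lit 0x12a8003,
  nat_lit 0x12a8005, nat_lit 0x12b0003, nat_lit 0x12b0005,
  nat_lit 0x12bc005, nat_lit 0x12c0003, nat_lit 0x12c0005,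
  nat_lit 0x12c4003, nat_lit 0x12c4005, nat_lit 0x12c8005,
  nat_lit 0x12cc003, nat_lit 0x12d0005, nat_lit 0x12d8003,
  nat_lit 0x12dc003, nat_lit 0x12dc005, nat_lit 0x12e4005,
  nat_lit 0x12e8005, nat_lit 0x12f0003, nat_lit 0x12f0005,
  nat_lit 0x12f4003, nat_lit 0x12f8005, nat_lit 0x12fc003,
  nat_lit 0x12fc005, nat_lit 0x130c005, nat_lit 0x1310003,
  nat_lit 0x1310005, nat_lit 0x1314005, nat_lit 0x1318003,
  nat_lit 0x1318005, nat_lit 0x131c005, nat_lit 0x1320003,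
  nat_lit 0x1324003, nat_lit 0x1328003, nat_lit 0x1328005,
  nat_lit 0x132c005, nat_lit 0x1330003, nat_lit 0x1334003,
  nat_lit 0x133c003, nat_lit 0x133c005, nat_lit 0x1340005,
  nat_lit 0x1344005, nat_lit 0x1350003, nat_lit 0x1350005,
  nat_lit 0x1354003, nat_lit 0x1358005, nat_lit 0x135c003,
  nat_lit 0x135c005, nat_lit 0x1360003, nat_lit 0x1364003,
  nat_lit 0x1368005, nat_lit 0x136c005, nat_lit 0x1374003,
  nat_lit 0x1374005, nat_lit 0x1378003, nat_lit 0x1378005,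
  nat_lit 0x137c003, nat_lit 0x137c005, nat_lit 0x1380005,
  nat_lit 0x138c005, nat_lit 0x1390003, nat_lit 0x1394003,
  nat_lit 0x1394005, nat_lit 0x1398003, nat_lit 0x139c003,
  nat_lit 0x13a0005, nat_lit 0x13a4003, nat_lit 0x13a8003,
  nat_lit 0x13a8005, nat_lit 0x13ac005, nat_lit 0x13bc005,
  nat_lit 0x13c0003, nat_lit 0x13c8003, nat_lit 0x13c8005,
  nat_lit 0x13d0005, nat_lit 0x13d4003, nat_lit 0x13d8003,
  nat_lit 0x13d8005, nat_lit 0x13dc003, nat_lit 0x13dc005,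
  nat_lit 0x13e0003, nat_lit 0x13e8005, nat_lit 0x13ec003,
  nat_lit 0x13ec005, nat_lit 0x13f0005, nat_lit 0x13f8003,
  nat_lit 0x13fc003, nat_lit 0x13fc005, nat_lit 0x1400003,
  nat_lit 0x1400005, nat_lit 0x1404003, nat_lit 0x1404005,
  nat_lit 0x1408003, nat_lit 0x140c003, nat_lit 0x140c005,
  nat_lit 0x1410005, nat_lit 0x1414003, nat_lit 0x1414005,
  nat_lit 0x1418005, nat_lit 0x141c003, nat_lit 0x141c005,
  nat_lit 0x1420003, nat_lit 0x1424003, nat_lit 0x1430003,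
  nat_lit 0x1430005, nat_lit 0x1434003, nat_lit 0x1438003,
  nat_lit 0x1444003, nat_lit 0x1448003, nat_lit 0x1448005,
  nat_lit 0x1454003, nat_lit 0x145c005, nat_lit 0x1460005,
  nat_lit 0x1464005, nat_lit 0x1468003, nat_lit 0x146c003,
  nat_lit 0x146c005, nat_lit 0x1470003, nat_lit 0x1470005,
  nat_lit 0x1474005, nat_lit 0x1480003, nat_lit 0x1488005,
  nat_lit 0x1490005, nat_lit 0x1494005, nat_lit 0x1498005,
  nat_lit 0x149c005, nat_lit 0x14a0003, nat_lit 0x14a4003,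
  nat_lit 0x14a4005, nat_lit 0x14ac003, nat_lit 0x14b4003,
  nat_lit 0x14b4005, nat_lit 0x14b8003, nat_lit 0x14bc003,
  nat_lit 0x14bc005, nat_lit 0x14c4003, nat_lit 0x14c8005,
  nat_lit 0x14d0005, nat_lit 0x14d8003, nat_lit 0x14e0005,
  nat_lit 0x14e4003, nat_lit 0x14e4005, nat_lit 0x14e8003,
  nat_lit 0x14ec003, nat_lit 0x14f8005, nat_lit 0x14fc005,
  nat_lit 0x1500003, nat_lit 0x1504005, nat_lit 0x150c003,
  nat_lit 0x1510005, nat_lit 0x1514003, nat_lit 0x1520005,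
  nat_lit 0x1528003, nat_lit 0x1528005, nat_lit 0x1530003,
  nat_lit 0x1530005, nat_lit 0x1534003, nat_lit 0x1538003,
  nat_lit 0x1538005, nat_lit 0x153c003, nat_lit 0x153c005,
  nat_lit 0x1540003, nat_lit 0x1544003, nat_lit 0x1544005,
  nat_lit 0x1548003, nat_lit 0x1548005, nat_lit 0x154c003,
  nat_lit 0x1550003, nat_lit 0x1554005, nat_lit 0x1558003,
  nat_lit 0x1558005, nat_lit 0x155c005, nat_lit 0x1560003,
  nat_lit 0x1560005, nat_lit 0x1578003, nat_lit 0x1578005,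
  nat_lit 0x157c003, nat_lit 0x1590003, nat_lit 0x1594005,
  nat_lit 0x1598005, nat_lit 0x15a0003, nat_lit 0x15a0005,
  nat_lit 0x15a4005, nat_lit 0x15b4005, nat_lit 0x15bc005,
  nat_lit 0x15c4005, nat_lit 0x15c8005, nat_lit 0x15cc003,
  nat_lit 0x15d0003, nat_lit 0x15e8003, nat_lit 0x15f4003,
  nat_lit 0x15f8003, nat_lit 0x15f8005, nat_lit 0x1600003,
  nat_lit 0x1600005, nat_lit 0x1604005, nat_lit 0x1608005,
  nat_lit 0x1614003, nat_lit 0x1614005, nat_lit 0x1618005,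
  nat_lit 0x1620005, nat_lit 0x1624003, nat_lit 0x1624005,
  nat_lit 0x1628005, nat_lit 0x1634005, nat_lit 0x1638005,
  nat_lit 0x1640003, nat_lit 0x1644003, nat_lit 0x1644005,
  nat_lit 0x1648003, nat_lit 0x1650003, nat_lit 0x1654003,
  nat_lit 0x1654005, nat_lit 0x1658005, nat_lit 0x165c005,
  nat_lit 0x1664005, nat_lit 0x1668003, nat_lit 0x1668005,
  nat_lit 0x166c005, nat_lit 0x1674003, nat_lit 0x1680005,
  nat_lit 0x1684003, nat_lit 0x168c005, nat_lit 0x1698005,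
  nat_lit 0x16a0005, nat_lit 0x16a8005, nat_lit 0x16b0003,
  nat_lit 0x16b0005, nat_lit 0x16b4003, nat_lit 0x16b4005,
  nat_lit 0x16b8005, nat_lit 0x16bc005, nat_lit 0x16d8003,
  nat_lit 0x16dc003, nat_lit 0x16e4005, nat_lit 0x16e8003,
  nat_lit 0x16e8005, nat_lit 0x16ec005, nat_lit 0x16f0005,
  nat_lit 0x1700005, nat_lit 0x1704005, nat_lit 0x170c003,
  nat_lit 0x1710005, nat_lit 0x171c005, nat_lit 0x1720005,
  nat_lit 0x1724003, nat_lit 0x1738003, nat_lit 0x1744005,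
  nat_lit 0x174c005, nat_lit 0x1750003, nat_lit 0x1750005,
  nat_lit 0x1760003, nat_lit 0x1764003, nat_lit 0x1764005,
  nat_lit 0x1768005, nat_lit 0x176c003, nat_lit 0x1770005,
  nat_lit 0x177c005, nat_lit 0x1784003, nat_lit 0x1794003,
  nat_lit 0x1798003, nat_lit 0x179c005, nat_lit 0x17c0005,
  nat_lit 0x17d8003, nat_lit 0x17dc003, nat_lit 0x17e8003,
  nat_lit 0x17ec005, nat_lit 0x17f4003, nat_lit 0x17f8005,
  nat_lit 0x17fc005, nat_lit 0x1800005, nat_lit 0x180c005,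
  nat_lit 0x1810005, nat_lit 0x181c003, nat_lit 0x1834003,
  nat_lit 0x1838003, nat_lit 0x184c003, nat_lit 0x1854005,
  nat_lit 0x185c005, nat_lit 0x186c005, nat_lit 0x1874003,
  nat_lit 0x1874005, nat_lit 0x187c003, nat_lit 0x187c005,
  nat_lit 0x1884003, nat_lit 0x1884005, nat_lit 0x1888003,
  nat_lit 0x1898003, nat_lit 0x1898005, nat_lit 0x189c005,
  nat_lit 0x18b8003, nat_lit 0x18c4003, nat_lit 0x18c8005,
  nat_lit 0x18d0003, nat_lit 0x18d0005, nat_lit 0x18dc005,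
  nat_lit 0x18e4005, nat_lit 0x18ec003, nat_lit 0x18ec005,
  nat_lit 0x1900003, nat_lit 0x1908005, nat_lit 0x1928003,
  nat_lit 0x1928005, nat_lit 0x192c003, nat_lit 0x1934003,
  nat_lit 0x193c005, nat_lit 0x1944005, nat_lit 0x194c003,
  nat_lit 0x1950003, nat_lit 0x195c003, nat_lit 0x1960003,
  nat_lit 0x1960005]

theorem ckA1 : chkL ruleA AL0 (nat_lit 2001) ceA1 (nat_lit 1001) = true := by decide +kernel

def ceA2 : List ℕ :=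
 [nat_lit 0x1964005, nat_lit 0x196c003, nat_lit 0x196c005,
  nat_lit 0x1974005, nat_lit 0x197c003, nat_lit 0x198c005,
  nat_lit 0x1990003, nat_lit 0x1998005, nat_lit 0x199c005,
  nat_lit 0x19a0003, nat_lit 0x19a0005, nat_lit 0x19a4005,
  nat_lit 0x19a8003, nat_lit 0x19ac003, nat_lit 0x19ac005,
  nat_lit 0x19b4005, nat_lit 0x19b8003, nat_lit 0x19b8005,
  nat_lit 0x19bc003, nat_lit 0x19bc005, nat_lit 0x19c4005,
  nat_lit 0x19cc005, nat_lit 0x19d8005, nat_lit 0x19e4005,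
  nat_lit 0x19e8003, nat_lit 0x19f4005, nat_lit 0x19f8005,
  nat_lit 0x19fc003, nat_lit 0x1a00005, nat_lit 0x1a04003,
  nat_lit 0x1a08003, nat_lit 0x1a08005, nat_lit 0x1a10003,
  nat_lit 0x1a14003, nat_lit 0x1a14005, nat_lit 0x1a18003,
  nat_lit 0x1a1c005, nat_lit 0x1a20003, nat_lit 0x1a24005,
  nat_lit 0x1a28005, nat_lit 0x1a34003, nat_lit 0x1a34005,
  nat_lit 0x1a40005, nat_lit 0x1a48005, nat_lit 0x1a4c005,
  nat_lit 0x1a5c003, nat_lit 0x1a64005, nat_lit 0x1a70003,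
  nat_lit 0x1a74005, nat_lit 0x1a7c005, nat_lit 0x1a8c003,
  nat_lit 0x1a90003, nat_lit 0x1a90005, nat_lit 0x1a94003,
  nat_lit 0x1a98005, nat_lit 0x1a9c005, nat_lit 0x1aa8003,
  nat_lit 0x1ab4003, nat_lit 0x1ab8003, nat_lit 0x1abc003,
  nat_lit 0x1abc005, nat_lit 0x1ac4003, nat_lit 0x1acc005,
  nat_lit 0x1ad0005, nat_lit 0x1ad4003, nat_lit 0x1ad8003,
  nat_lit 0x1ad8005, nat_lit 0x1adc005, nat_lit 0x1ae4003,
  nat_lit 0x1af8005, nat_lit 0x1afc003, nat_lit 0x1b08003,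
  nat_lit 0x1b0c005, nat_lit 0x1b1c005, nat_lit 0x1b20003,
  nat_lit 0x1b20005, nat_lit 0x1b24003, nat_lit 0x1b40003,
  nat_lit 0x1b4c005, nat_lit 0x1b50003, nat_lit 0x1b54003,
  nat_lit 0x1b58005, nat_lit 0x1b5c003, nat_lit 0x1b5c005,
  nat_lit 0x1b60005, nat_lit 0x1b64005, nat_lit 0x1b7c003,
  nat_lit 0x1b80005, nat_lit 0x1b84005, nat_lit 0x1b8c005,
  nat_lit 0x1b90005, nat_lit 0x1ba0005, nat_lit 0x1ba8003,
  nat_lit 0x1bc8003, nat_lit 0x1bcc003, nat_lit 0x1bd4003,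
  nat_lit 0x1bdc005, nat_lit 0x1bec003, nat_lit 0x1bec005,
  nat_lit 0x1bf8005, nat_lit 0x1bfc005, nat_lit 0x1c08003,
  nat_lit 0x1c10005, nat_lit 0x1c1c003, nat_lit 0x1c1c005,
  nat_lit 0x1c2c005, nat_lit 0x1c30003, nat_lit 0x1c38005,
  nat_lit 0x1c48005, nat_lit 0x1c54005, nat_lit 0x1c58005,
  nat_lit 0x1c5c005, nat_lit 0x1c78003, nat_lit 0x1c84005,
  nat_lit 0x1c88005, nat_lit 0x1c90005, nat_lit 0x1c98003,
  nat_lit 0x1c9c005, nat_lit 0x1cb0003, nat_lit 0x1cbc005,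
  nat_lit 0x1cc8003, nat_lit 0x1ccc003, nat_lit 0x1ccc005,
  nat_lit 0x1cd0005, nat_lit 0x1cd8005, nat_lit 0x1ce4005,
  nat_lit 0x1cf8003, nat_lit 0x1cfc003, nat_lit 0x1d24003,
  nat_lit 0x1d2c003, nat_lit 0x1d4c003, nat_lit 0x1d50003,
  nat_lit 0x1d58005, nat_lit 0x1d5c005, nat_lit 0x1d68005,
  nat_lit 0x1d74003, nat_lit 0x1d74005, nat_lit 0x1d78003,
  nat_lit 0x1d88005, nat_lit 0x1d98003, nat_lit 0x1da0005,
  nat_lit 0x1dac005, nat_lit 0x1db8003, nat_lit 0x1db8005,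
  nat_lit 0x1ddc003, nat_lit 0x1de0005, nat_lit 0x1de4003,
  nat_lit 0x1df4005, nat_lit 0x1e00003, nat_lit 0x1e04005,
  nat_lit 0x1e10003, nat_lit 0x1e3c003, nat_lit 0x1e64005,
  nat_lit 0x1e78005, nat_lit 0x1e84003, nat_lit 0x1eac005,
  nat_lit 0x1eb4005, nat_lit 0x1ebc003, nat_lit 0x1ec8005,
  nat_lit 0x1f20003, nat_lit 0x1f24005, nat_lit 0x1f2c005,
  nat_lit 0x1f30005, nat_lit 0x1f3c005, nat_lit 0x1f54003,
  nat_lit 0x1f54005, nat_lit 0x1f58003, nat_lit 0x1f64005,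
  nat_lit 0x1f70005, nat_lit 0x1f88005, nat_lit 0x1fac005,
  nat_lit 0x1fb4005, nat_lit 0x1fc4005, nat_lit 0x1fc8005,
  nat_lit 0x1fcc003, nat_lit 0x1fd0003, nat_lit 0x1fe0005,
  nat_lit 0x1fe8005, nat_lit 0x1ff8005, nat_lit 0x2018003,
  nat_lit 0x2044005, nat_lit 0x2064005, nat_lit 0x2070003,
  nat_lit 0x20a0003, nat_lit 0x20d4003, nat_lit 0x20dc005,
  nat_lit 0x20f0003, nat_lit 0x20f4003, nat_lit 0x2104005,
  nat_lit 0x211c003, nat_lit 0x2134005, nat_lit 0x214c005,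
  nat_lit 0x2158003, nat_lit 0x21f4005, nat_lit 0xa4053,
  nat_lit 0x1980cd, nat_lit 0x199129, nat_lit 0x1a00d1,
  nat_lit 0x2259127, nat_lit 0x1b80dd, nat_lit 0x1b9131,
  nat_lit 0x2265127, nat_lit 0x1c80e5, nat_lit 0x226d12b,
  nat_lit 0x2271127, nat_lit 0x1d40eb, nat_lit 0x2279127,
  nat_lit 0x227d13b, nat_lit 0x228112f, nat_lit 0x24015,
  nat_lit 0x24017, nat_lit 0x28017, nat_lit 0x25149,
  nat_lit 0x24019, nat_lit 0x28019, nat_lit 0x2514f,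
  nat_lit 0x2c019, nat_lit 0x25153, nat_lit 0x29153,
  nat_lit 0x25157, nat_lit 0x25143, nat_lit 0x29143,
  nat_lit 0x2515d, nat_lit 0x2d143, nat_lit 0x25161,
  nat_lit 0x29161, nat_lit 0x25165, nat_lit 0x31143,
  nat_lit 0x25169, nat_lit 0x29169, nat_lit 0x2516d,
  nat_lit 0x2d169, nat_lit 0x25171, nat_lit 0x29171,
  nat_lit 0x25175, nat_lit 0x2512f, nat_lit 0x2912f,
  nat_lit 0x2517b, nat_lit 0x2d12f, nat_lit 0x2517f,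
  nat_lit 0x2917f, nat_lit 0x25183, nat_lit 0x3112f,
  nat_lit 0x25187, nat_lit 0x29187, nat_lit 0x2518b,
  nat_lit 0x2d187, nat_lit 0x2518f, nat_lit 0x2918f,
  nat_lit 0x25193, nat_lit 0x228512f, nat_lit 0x25197,
  nat_lit 0x29197, nat_lit 0x2519b, nat_lit 0x2d197,
  nat_lit 0x2519f, nat_lit 0x2919f, nat_lit 0x251a3,
  nat_lit 0x31197, nat_lit 0x251a7, nat_lit 0x291a7,
  nat_lit 0x251ab, nat_lit 0x2d1a7, nat_lit 0x251af,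
  nat_lit 0x291af, nat_lit 0x251b3, nat_lit 0x2513b,
  nat_lit 0x2913b, nat_lit 0x251b9, nat_lit 0x2d13b,
  nat_lit 0x251bd, nat_lit 0x291bd, nat_lit 0x251c1,
  nat_lit 0x3113b, nat_lit 0x251c5, nat_lit 0x291c5,
  nat_lit 0x251c9, nat_lit 0x2d1c5, nat_lit 0x251cd,
  nat_lit 0x291cd, nat_lit 0x251d1, nat_lit 0x228513b,
  nat_lit 0x251d5, nat_lit 0x291d5, nat_lit 0x251d9,
  nat_lit 0x2d1d5, nat_lit 0x251dd, nat_lit 0x291dd,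
  nat_lit 0x251e1, nat_lit 0x311d5, nat_lit 0x251e5,
  nat_lit 0x291e5, nat_lit 0x251e9, nat_lit 0x2d1e5,
  nat_lit 0x251ed, nat_lit 0x291ed, nat_lit 0x251f1,
  nat_lit 0x225d13b, nat_lit 0x251f5, nat_lit 0x291f5,
  nat_lit 0x251f9, nat_lit 0x2d1f5, nat_lit 0x251fd,
  nat_lit 0x291fd, nat_lit 0x25201, nat_lit 0x311f5,
  nat_lit 0x25205, nat_lit 0x29205, nat_lit 0x25209,
  nat_lit 0x2d205, nat_lit 0x2520d, nat_lit 0x2920d,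
  nat_lit 0x25211, nat_lit 0x22851f5, nat_lit 0x25215,
  nat_lit 0x29215, nat_lit 0x25219, nat_lit 0x2d215,
  nat_lit 0x2521d, nat_lit 0x2921d, nat_lit 0x25221,
  nat_lit 0x31215, nat_lit 0x25225, nat_lit 0x29225,
  nat_lit 0x25229, nat_lit 0x2d225, nat_lit 0x2522d,
  nat_lit 0x2922d, nat_lit 0x25231, nat_lit 0x25135,
  nat_lit 0x29135, nat_lit 0x25237, nat_lit 0x2d135,
  nat_lit 0x2523b, nat_lit 0x2923b, nat_lit 0x2523f,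
  nat_lit 0x31135, nat_lit 0x25243, nat_lit 0x29243,
  nat_lit 0x25247, nat_lit 0x2d243, nat_lit 0x2524b,
  nat_lit 0x2924b, nat_lit 0x2524f, nat_lit 0x2285135,
  nat_lit 0x25253, nat_lit 0x29253, nat_lit 0x25257,
  nat_lit 0x2d253, nat_lit 0x2525b, nat_lit 0x2925b,
  nat_lit 0x2525f, nat_lit 0x31253, nat_lit 0x25263,
  nat_lit 0x29263, nat_lit 0x25267, nat_lit 0x2d263,
  nat_lit 0x2526b, nat_lit 0x2926b, nat_lit 0x2526f,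
  nat_lit 0x225d135, nat_lit 0x25273, nat_lit 0x29273,
  nat_lit 0x25277, nat_lit 0x2d273, nat_lit 0x2527b,
  nat_lit 0x2927b, nat_lit 0x2527f, nat_lit 0x31273,
  nat_lit 0x25283, nat_lit 0x29283, nat_lit 0x25287,
  nat_lit 0x2d283, nat_lit 0x2528b, nat_lit 0x2928b,
  nat_lit 0x2528f, nat_lit 0x2285273, nat_lit 0x25293,
  nat_lit 0x29293, nat_lit 0x25297, nat_lit 0x2d293,
  nat_lit 0x2529b, nat_lit 0x2929b, nat_lit 0x2529f,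
  nat_lit 0x31293, nat_lit 0x252a3, nat_lit 0x292a3,
  nat_lit 0x252a7, nat_lit 0x2d2a3, nat_lit 0x252ab,
  nat_lit 0x292ab, nat_lit 0x252af, nat_lit 0x2275135,
  nat_lit 0x252b3, nat_lit 0x292b3, nat_lit 0x252b7,
  nat_lit 0x2d2b3, nat_lit 0x252bb, nat_lit 0x292bb,
  nat_lit 0x252bf, nat_lit 0x312b3, nat_lit 0x252c3,
  nat_lit 0x292c3, nat_lit 0x252c7, nat_lit 0x2d2c3,
  nat_lit 0x252cb, nat_lit 0x292cb, nat_lit 0x252cf,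
  nat_lit 0x22852b3, nat_lit 0x252d3, nat_lit 0x292d3,
  nat_lit 0x252d7, nat_lit 0x2d2d3, nat_lit 0x252db,
  nat_lit 0x292db, nat_lit 0x252df, nat_lit 0x312d3,
  nat_lit 0x252e3, nat_lit 0x292e3, nat_lit 0x252e7,
  nat_lit 0x2d2e3, nat_lit 0x252eb, nat_lit 0x292eb,
  nat_lit 0x252ef, nat_lit 0x225d2b3, nat_lit 0x252f3,
  nat_lit 0x292f3, nat_lit 0x252f7, nat_lit 0x2d2f3,
  nat_lit 0x252fb, nat_lit 0x292fb, nat_lit 0x252ff,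
  nat_lit 0x312f3, nat_lit 0x25303, nat_lit 0x29303,
  nat_lit 0x25307, nat_lit 0x2d303, nat_lit 0x2530b,
  nat_lit 0x2930b, nat_lit 0x2530f, nat_lit 0x22852f3,
  nat_lit 0x25313, nat_lit 0x29313, nat_lit 0x25317,
  nat_lit 0x2d313, nat_lit 0x2531b, nat_lit 0x2931b,
  nat_lit 0x2531f, nat_lit 0x31313, nat_lit 0x25323,
  nat_lit 0x29323, nat_lit 0x25327, nat_lit 0x2d323,
  nat_lit 0x2532b, nat_lit 0x2932b, nat_lit 0x2532f,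
  nat_lit 0x25127, nat_lit 0x29127, nat_lit 0x25335,
  nat_lit 0x2d127, nat_lit 0x25339, nat_lit 0x29339,
  nat_lit 0x2533d, nat_lit 0x31127, nat_lit 0x25341,
  nat_lit 0x29341, nat_lit 0x25345, nat_lit 0x2d341,
  nat_lit 0x25349, nat_lit 0x29349, nat_lit 0x2534d,
  nat_lit 0x2285127, nat_lit 0x25351, nat_lit 0x29351,
  nat_lit 0x25355, nat_lit 0x2d351, nat_lit 0x25359,
  nat_lit 0x29359, nat_lit 0x2535d, nat_lit 0x31351,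
  nat_lit 0x25361, nat_lit 0x29361, nat_lit 0x25365,
  nat_lit 0x2d361, nat_lit 0x25369, nat_lit 0x29369,
  nat_lit 0x2536d, nat_lit 0x225d127, nat_lit 0x25371,
  nat_lit 0x29371, nat_lit 0x25375, nat_lit 0x2d371,
  nat_lit 0x25379, nat_lit 0x29379, nat_lit 0x2537d,
  nat_lit 0x31371, nat_lit 0x25381, nat_lit 0x29381,
  nat_lit 0x25385, nat_lit 0x2d381, nat_lit 0x25389,
  nat_lit 0x29389, nat_lit 0x2538d, nat_lit 0x2285371,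
  nat_lit 0x25391, nat_lit 0x29391, nat_lit 0x25395,
  nat_lit 0x2d391, nat_lit 0x25399, nat_lit 0x29399,
  nat_lit 0x2539d, nat_lit 0x31391, nat_lit 0x253a1,
  nat_lit 0x293a1, nat_lit 0x253a5, nat_lit 0x2d3a1,
  nat_lit 0x253a9, nat_lit 0x293a9, nat_lit 0x253ad,
  nat_lit 0x2275127, nat_lit 0x253b1, nat_lit 0x293b1,
  nat_lit 0x253b5, nat_lit 0x2d3b1, nat_lit 0x253b9,
  nat_lit 0x293b9, nat_lit 0x253bd, nat_lit 0x313b1,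
  nat_lit 0x253c1, nat_lit 0x293c1, nat_lit 0x253c5,
  nat_lit 0x2d3c1, nat_lit 0x253c9, nat_lit 0x293c9,
  nat_lit 0x253cd, nat_lit 0x22853b1, nat_lit 0x253d1,
  nat_lit 0x293d1, nat_lit 0x253d5, nat_lit 0x2d3d1,
  nat_lit 0x253d9, nat_lit 0x293d9, nat_lit 0x253dd,
  nat_lit 0x313d1, nat_lit 0x253e1, nat_lit 0x293e1,
  nat_lit 0x253e5, nat_lit 0x2d3e1, nat_lit 0x253e9,
  nat_lit 0x293e9, nat_lit 0x253ed, nat_lit 0x225d3b1,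
  nat_lit 0x253f1, nat_lit 0x293f1, nat_lit 0x253f5,
  nat_lit 0x2d3f1, nat_lit 0x253f9, nat_lit 0x293f9,
  nat_lit 0x253fd, nat_lit 0x313f1, nat_lit 0x25401,
  nat_lit 0x29401, nat_lit 0x25405, nat_lit 0x2d401,
  nat_lit 0x25409, nat_lit 0x29409, nat_lit 0x2540d,
  nat_lit 0x22853f1, nat_lit 0x25411, nat_lit 0x29411,
  nat_lit 0x25415, nat_lit 0x2d411, nat_lit 0x25419,
  nat_lit 0x29419, nat_lit 0x2541d, nat_lit 0x31411,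
  nat_lit 0x25421, nat_lit 0x29421, nat_lit 0x25425,
  nat_lit 0x2d421, nat_lit 0x25429, nat_lit 0x29429,
  nat_lit 0x2542d, nat_lit 0x2269127, nat_lit 0x25431,
  nat_lit 0x29431, nat_lit 0x25435, nat_lit 0x2d431,
  nat_lit 0x25439, nat_lit 0x29439, nat_lit 0x2543d,
  nat_lit 0x31431, nat_lit 0x25441, nat_lit 0x29441,
  nat_lit 0x25445, nat_lit 0x2d441, nat_lit 0x25449,
  nat_lit 0x29449, nat_lit 0x2544d, nat_lit 0x2285431,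
  nat_lit 0x25451, nat_lit 0x29451, nat_lit 0x25455,
  nat_lit 0x2d451, nat_lit 0x25459, nat_lit 0x29459,
  nat_lit 0x2545d, nat_lit 0x31451, nat_lit 0x25461,
  nat_lit 0x29461, nat_lit 0x25465, nat_lit 0x2d461,
  nat_lit 0x25469, nat_lit 0x29469, nat_lit 0x2546d,
  nat_lit 0x225d431, nat_lit 0x25471, nat_lit 0x29471,
  nat_lit 0x25475, nat_lit 0x2d471, nat_lit 0x25479,
  nat_lit 0x29479, nat_lit 0x2547d, nat_lit 0x31471,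
  nat_lit 0x25481, nat_lit 0x29481, nat_lit 0x25485,
  nat_lit 0x2d481, nat_lit 0x25489, nat_lit 0x29489,
  nat_lit 0x2548d, nat_lit 0x2285471, nat_lit 0x25491,
  nat_lit 0x29491, nat_lit 0x25495, nat_lit 0x2d491,
  nat_lit 0x25499, nat_lit 0x29499, nat_lit 0x2549d,
  nat_lit 0x31491, nat_lit 0x254a1, nat_lit 0x294a1,
  nat_lit 0x254a5, nat_lit 0x2d4a1, nat_lit 0x254a9,
  nat_lit 0x294a9, nat_lit 0x254ad, nat_lit 0x2275431,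
  nat_lit 0x254b1, nat_lit 0x294b1, nat_lit 0x254b5,
  nat_lit 0x2d4b1, nat_lit 0x254b9, nat_lit 0x294b9,
  nat_lit 0x254bd, nat_lit 0x314b1, nat_lit 0x254c1,
  nat_lit 0x294c1, nat_lit 0x254c5, nat_lit 0x2d4c1,
  nat_lit 0x254c9, nat_lit 0x294c9, nat_lit 0x254cd,
  nat_lit 0x22854b1, nat_lit 0x254d1, nat_lit 0x294d1,
  nat_lit 0x254d5, nat_lit 0x2d4d1, nat_lit 0x254d9,
  nat_lit 0x294d9, nat_lit 0x254dd, nat_lit 0x314d1,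
  nat_lit 0x254e1, nat_lit 0x294e1, nat_lit 0x254e5,
  nat_lit 0x2d4e1, nat_lit 0x254e9, nat_lit 0x294e9,
  nat_lit 0x254ed, nat_lit 0x225d4b1, nat_lit 0x254f1,
  nat_lit 0x294f1, nat_lit 0x254f5, nat_lit 0x2d4f1,
  nat_lit 0x254f9, nat_lit 0x294f9, nat_lit 0x254fd,
  nat_lit 0x314f1, nat_lit 0x25501, nat_lit 0x29501,
  nat_lit 0x25505, nat_lit 0x2d501, nat_lit 0x25509,
  nat_lit 0x29509, nat_lit 0x2550d, nat_lit 0x22854f1,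
  nat_lit 0x25511, nat_lit 0x29511, nat_lit 0x25515,
  nat_lit 0x2d511, nat_lit 0x25519, nat_lit 0x29519,
  nat_lit 0x2551d, nat_lit 0x31511, nat_lit 0x25521,
  nat_lit 0x29521, nat_lit 0x25525, nat_lit 0x2d521,
  nat_lit 0x25529, nat_lit 0x29529, nat_lit 0x2552d,
  nat_lit 0x2512b, nat_lit 0x2912b, nat_lit 0x25533,
  nat_lit 0x2d12b, nat_lit 0x25537, nat_lit 0x29537,
  nat_lit 0x2553b, nat_lit 0x3112b, nat_lit 0x2553f,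
  nat_lit 0x2953f, nat_lit 0x25543, nat_lit 0x2d53f,
  nat_lit 0x25547, nat_lit 0x29547, nat_lit 0x2554b,
  nat_lit 0x228512b, nat_lit 0x2554f, nat_lit 0x2954f,
  nat_lit 0x25553, nat_lit 0x2d54f, nat_lit 0x25557,
  nat_lit 0x29557, nat_lit 0x2555b, nat_lit 0x3154f,
  nat_lit 0x2555f, nat_lit 0x2955f, nat_lit 0x25563,
  nat_lit 0x2d55f, nat_lit 0x25567, nat_lit 0x29567,
  nat_lit 0x2556b, nat_lit 0x225d12b, nat_lit 0x2556f,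
  nat_lit 0x2956f, nat_lit 0x25573, nat_lit 0x2d56f,
  nat_lit 0x25577, nat_lit 0x29577, nat_lit 0x2557b,
  nat_lit 0x3156f, nat_lit 0x2557f, nat_lit 0x2957f,
  nat_lit 0x25583, nat_lit 0x2d57f, nat_lit 0x25587,
  nat_lit 0x29587, nat_lit 0x2558b, nat_lit 0x228556f,
  nat_lit 0x2558f, nat_lit 0x2958f, nat_lit 0x25593,
  nat_lit 0x2d58f, nat_lit 0x25597, nat_lit 0x29597,
  nat_lit 0x2559b, nat_lit 0x3158f, nat_lit 0x2559f,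
  nat_lit 0x2959f, nat_lit 0x255a3, nat_lit 0x2d59f,
  nat_lit 0x255a7, nat_lit 0x295a7, nat_lit 0x255ab,
  nat_lit 0x227512b, nat_lit 0x255af, nat_lit 0x295af,
  nat_lit 0x255b3, nat_lit 0x2d5af, nat_lit 0x255b7,
  nat_lit 0x295b7, nat_lit 0x255bb, nat_lit 0x315af,
  nat_lit 0x255bf, nat_lit 0x295bf, nat_lit 0x255c3,
  nat_lit 0x2d5bf, nat_lit 0x255c7, nat_lit 0x295c7,
  nat_lit 0x255cb, nat_lit 0x22855af, nat_lit 0x255cf,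
  nat_lit 0x295cf, nat_lit 0x255d3, nat_lit 0x2d5cf,
  nat_lit 0x255d7, nat_lit 0x295d7, nat_lit 0x255db,
  nat_lit 0x315cf, nat_lit 0x255df, nat_lit 0x295df,
  nat_lit 0x255e3, nat_lit 0x2d5df, nat_lit 0x255e7,
  nat_lit 0x295e7, nat_lit 0x255eb, nat_lit 0x225d5af,
  nat_lit 0x255ef, nat_lit 0x295ef, nat_lit 0x255f3,
  nat_lit 0x2d5ef, nat_lit 0x255f7, nat_lit 0x295f7,
  nat_lit 0x255fb, nat_lit 0x315ef, nat_lit 0x255ff,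
  nat_lit 0x295ff, nat_lit 0x25603, nat_lit 0x2d5ff,
  nat_lit 0x25607, nat_lit 0x29607, nat_lit 0x2560b,
  nat_lit 0x22855ef, nat_lit 0x2560f, nat_lit 0x2960f,
  nat_lit 0x25613, nat_lit 0x2d60f, nat_lit 0x25617,
  nat_lit 0x29617, nat_lit 0x2561b, nat_lit 0x3160f,
  nat_lit 0x2561f, nat_lit 0x2961f, nat_lit 0x25623,
  nat_lit 0x2d61f, nat_lit 0x25627, nat_lit 0x29627,
  nat_lit 0x2562b, nat_lit 0x226912b, nat_lit 0x2562f,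
  nat_lit 0x2962f, nat_lit 0x25633, nat_lit 0x2d62f,
  nat_lit 0x25637, nat_lit 0x29637, nat_lit 0x2563b,
  nat_lit 0x3162f, nat_lit 0x2563f, nat_lit 0x2963f,
  nat_lit 0x25643, nat_lit 0x2d63f, nat_lit 0x25647,
  nat_lit 0x29647, nat_lit 0x2564b, nat_lit 0x228562f,
  nat_lit 0x2564f, nat_lit 0x2964f, nat_lit 0x25653,
  nat_lit 0x2d64f, nat_lit 0x25657, nat_lit 0x29657,
  nat_lit 0x2565b, nat_lit 0x3164f, nat_lit 0x2565f,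
  nat_lit 0x2965f, nat_lit 0x25663, nat_lit 0x2d65f,
  nat_lit 0x25667, nat_lit 0x29667, nat_lit 0x2566b,
  nat_lit 0x225d62f, nat_lit 0x2566f, nat_lit 0x2966f,
  nat_lit 0x25673, nat_lit 0x2d66f, nat_lit 0x25677,
  nat_lit 0x29677, nat_lit 0x2567b, nat_lit 0x3166f,
  nat_lit 0x2567f, nat_lit 0x2967f, nat_lit 0x25683,
  nat_lit 0x2d67f, nat_lit 0x25687, nat_lit 0x29687,
  nat_lit 0x2568b, nat_lit 0x228566f, nat_lit 0x2568f,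
  nat_lit 0x2968f, nat_lit 0x25693, nat_lit 0x2d68f,
  nat_lit 0x25697, nat_lit 0x29697, nat_lit 0x2569b,
  nat_lit 0x3168f, nat_lit 0x2569f, nat_lit 0x2969f,
  nat_lit 0x256a3, nat_lit 0x2d69f, nat_lit 0x256a7,
  nat_lit 0x296a7, nat_lit 0x256ab, nat_lit 0x227562f,
  nat_lit 0x256af, nat_lit 0x296af, nat_lit 0x256b3,
  nat_lit 0x2d6af, nat_lit 0x256b7, nat_lit 0x296b7,
  nat_lit 0x256bb, nat_lit 0x316af, nat_lit 0x256bf,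
  nat_lit 0x296bf, nat_lit 0x256c3, nat_lit 0x2d6bf,
  nat_lit 0x256c7, nat_lit 0x296c7, nat_lit 0x256cb,
  nat_lit 0x22856af, nat_lit 0x256cf, nat_lit 0x296cf,
  nat_lit 0x256d3, nat_lit 0x2d6cf, nat_lit 0x256d7,
  nat_lit 0x296d7, nat_lit 0x256db, nat_lit 0x316cf,
  nat_lit 0x256df, nat_lit 0x296df, nat_lit 0x256e3,
  nat_lit 0x2d6df, nat_lit 0x256e7, nat_lit 0x296e7,
  nat_lit 0x256eb, nat_lit 0x225d6af, nat_lit 0x256ef,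
  nat_lit 0x296ef, nat_lit 0x256f3, nat_lit 0x2d6ef,
  nat_lit 0x256f7, nat_lit 0x296f7, nat_lit 0x256fb,
  nat_lit 0x316ef, nat_lit 0x256ff, nat_lit 0x296ff,
  nat_lit 0x25703, nat_lit 0x2d6ff, nat_lit 0x25707,
  nat_lit 0x29707, nat_lit 0x2570b, nat_lit 0x22856ef,
  nat_lit 0x2570f, nat_lit 0x2970f, nat_lit 0x25713,
  nat_lit 0x2d70f, nat_lit 0x25717, nat_lit 0x29717,
  nat_lit 0x2571b, nat_lit 0x3170f, nat_lit 0x2571f,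
  nat_lit 0x2971f, nat_lit 0x25723, nat_lit 0x2d71f,
  nat_lit 0x25727, nat_lit 0x29727, nat_lit 0x2572b,
  nat_lit 0x224d12b, nat_lit 0x2572f, nat_lit 0x2972f,
  nat_lit 0x25733, nat_lit 0x2d72f, nat_lit 0x25737,
  nat_lit 0x29737, nat_lit 0x2573b, nat_lit 0x3172f,
  nat_lit 0x2573f, nat_lit 0x2973f, nat_lit 0x25743,
  nat_lit 0x2d73f, nat_lit 0x25747, nat_lit 0x29747,
  nat_lit 0x2574b, nat_lit 0x228572f, nat_lit 0x2574f,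
  nat_lit 0x2974f, nat_lit 0x25753, nat_lit 0x2d74f,
  nat_lit 0x25757, nat_lit 0x29757, nat_lit 0x2575b,
  nat_lit 0x3174f, nat_lit 0x2575f, nat_lit 0x2975f,
  nat_lit 0x25763, nat_lit 0x2d75f, nat_lit 0x25767,
  nat_lit 0x29767, nat_lit 0x2576b, nat_lit 0x225d72f,
  nat_lit 0x2576f]

theorem ckA2 : chkL ruleA AL0 (nat_lit 3001) ceA2 (nat_lit 2001) = true := by decide +kernel

def ceA3 : List ℕ :=
 [nat_lit 0x2976f, nat_lit 0x25773, nat_lit 0x2d76f,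
  nat_lit 0x25777, nat_lit 0x29777, nat_lit 0x2577b,
  nat_lit 0x3176f, nat_lit 0x2577f, nat_lit 0x2977f,
  nat_lit 0x25783, nat_lit 0x2d77f, nat_lit 0x25787,
  nat_lit 0x29787, nat_lit 0x2578b, nat_lit 0x228576f,
  nat_lit 0x2578f, nat_lit 0x2978f, nat_lit 0x25793,
  nat_lit 0x2d78f, nat_lit 0x25797, nat_lit 0x29797,
  nat_lit 0x2579b, nat_lit 0x3178f, nat_lit 0x2579f,
  nat_lit 0x2979f, nat_lit 0x257a3, nat_lit 0x2d79f,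
  nat_lit 0x257a7, nat_lit 0x297a7, nat_lit 0x257ab,
  nat_lit 0x227572f, nat_lit 0x257af, nat_lit 0x297af,
  nat_lit 0x257b3, nat_lit 0x2d7af, nat_lit 0x257b7,
  nat_lit 0x297b7, nat_lit 0x257bb, nat_lit 0x317af,
  nat_lit 0x257bf, nat_lit 0x297bf, nat_lit 0x257c3,
  nat_lit 0x2d7bf, nat_lit 0x257c7, nat_lit 0x297c7,
  nat_lit 0x257cb, nat_lit 0x22857af, nat_lit 0x257cf,
  nat_lit 0x297cf, nat_lit 0x257d3, nat_lit 0x2d7cf,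
  nat_lit 0x257d7, nat_lit 0x297d7, nat_lit 0x257db,
  nat_lit 0x317cf, nat_lit 0x257df, nat_lit 0x297df,
  nat_lit 0x257e3, nat_lit 0x2d7df, nat_lit 0x257e7,
  nat_lit 0x297e7, nat_lit 0x257eb, nat_lit 0x225d7af,
  nat_lit 0x257ef, nat_lit 0x297ef, nat_lit 0x257f3,
  nat_lit 0x2d7ef, nat_lit 0x257f7, nat_lit 0x297f7,
  nat_lit 0x257fb, nat_lit 0x317ef, nat_lit 0x257ff,
  nat_lit 0x297ff, nat_lit 0x25803, nat_lit 0x2d7ff,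
  nat_lit 0x25807, nat_lit 0x29807, nat_lit 0x2580b,
  nat_lit 0x22857ef, nat_lit 0x2580f, nat_lit 0x2980f,
  nat_lit 0x25813, nat_lit 0x2d80f, nat_lit 0x25817,
  nat_lit 0x29817, nat_lit 0x2581b, nat_lit 0x3180f,
  nat_lit 0x2581f, nat_lit 0x2981f, nat_lit 0x25823,
  nat_lit 0x2d81f, nat_lit 0x25827, nat_lit 0x29827,
  nat_lit 0x2582b, nat_lit 0x226972f, nat_lit 0x2582f,
  nat_lit 0x2982f, nat_lit 0x25833, nat_lit 0x2d82f,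
  nat_lit 0x25837, nat_lit 0x29837, nat_lit 0x2583b,
  nat_lit 0x3182f, nat_lit 0x2583f, nat_lit 0x2983f,
  nat_lit 0x25843, nat_lit 0x2d83f, nat_lit 0x25847,
  nat_lit 0x29847, nat_lit 0x2584b, nat_lit 0x228582f,
  nat_lit 0x2584f, nat_lit 0x2984f, nat_lit 0x25853,
  nat_lit 0x2d84f, nat_lit 0x25857, nat_lit 0x29857,
  nat_lit 0x2585b, nat_lit 0x3184f, nat_lit 0x2585f,
  nat_lit 0x2985f, nat_lit 0x25863, nat_lit 0x2d85f,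
  nat_lit 0x25867, nat_lit 0x29867, nat_lit 0x2586b,
  nat_lit 0x225d82f, nat_lit 0x2586f, nat_lit 0x2986f,
  nat_lit 0x25873, nat_lit 0x2d86f, nat_lit 0x25877,
  nat_lit 0x29877, nat_lit 0x2587b, nat_lit 0x3186f,
  nat_lit 0x2587f, nat_lit 0x2987f, nat_lit 0x25883,
  nat_lit 0x2d87f, nat_lit 0x25887, nat_lit 0x29887,
  nat_lit 0x2588b, nat_lit 0x228586f, nat_lit 0x2588f,
  nat_lit 0x2988f, nat_lit 0x25893, nat_lit 0x2d88f,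
  nat_lit 0x25897, nat_lit 0x29897, nat_lit 0x2589b,
  nat_lit 0x3188f, nat_lit 0x2589f, nat_lit 0x2989f,
  nat_lit 0x258a3, nat_lit 0x2d89f, nat_lit 0x258a7,
  nat_lit 0x298a7, nat_lit 0x258ab, nat_lit 0x227582f,
  nat_lit 0x258af, nat_lit 0x298af, nat_lit 0x258b3,
  nat_lit 0x2d8af, nat_lit 0x258b7, nat_lit 0x298b7,
  nat_lit 0x258bb, nat_lit 0x318af, nat_lit 0x258bf,
  nat_lit 0x298bf, nat_lit 0x258c3, nat_lit 0x2d8bf,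
  nat_lit 0x258c7, nat_lit 0x298c7, nat_lit 0x258cb,
  nat_lit 0x22858af, nat_lit 0x258cf, nat_lit 0x298cf,
  nat_lit 0x258d3, nat_lit 0x2d8cf, nat_lit 0x258d7,
  nat_lit 0x298d7, nat_lit 0x258db, nat_lit 0x318cf,
  nat_lit 0x258df, nat_lit 0x298df, nat_lit 0x258e3,
  nat_lit 0x2d8df, nat_lit 0x258e7, nat_lit 0x298e7,
  nat_lit 0x258eb, nat_lit 0x225d8af, nat_lit 0x258ef,
  nat_lit 0x298ef, nat_lit 0x258f3, nat_lit 0x2d8ef,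
  nat_lit 0x258f7, nat_lit 0x298f7, nat_lit 0x258fb,
  nat_lit 0x318ef, nat_lit 0x258ff, nat_lit 0x298ff,
  nat_lit 0x25903, nat_lit 0x2d8ff, nat_lit 0x25907,
  nat_lit 0x29907, nat_lit 0x2590b, nat_lit 0x22858ef,
  nat_lit 0x2590f, nat_lit 0x2990f, nat_lit 0x25913,
  nat_lit 0x2d90f, nat_lit 0x25917, nat_lit 0x29917,
  nat_lit 0x2591b, nat_lit 0x3190f, nat_lit 0x2591f,
  nat_lit 0x2991f, nat_lit 0x25923, nat_lit 0x2d91f,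
  nat_lit 0x25927, nat_lit 0x29927, nat_lit 0x2592b,
  nat_lit 0x5402d, nat_lit 0x5402f, nat_lit 0x5802f,
  nat_lit 0x55933, nat_lit 0x54049, nat_lit 0x58049,
  nat_lit 0x55939, nat_lit 0x5c049, nat_lit 0x5593d,
  nat_lit 0x5993d, nat_lit 0x55941, nat_lit 0x54007,
  nat_lit 0x58007, nat_lit 0x55947, nat_lit 0x5c007,
  nat_lit 0x5594b, nat_lit 0x5994b, nat_lit 0x5594f,
  nat_lit 0x90007, nat_lit 0x55953, nat_lit 0x59953,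
  nat_lit 0x55957, nat_lit 0x5d953, nat_lit 0x5595b,
  nat_lit 0x5995b, nat_lit 0x5595f, nat_lit 0x54009,
  nat_lit 0x58009, nat_lit 0x55965, nat_lit 0x5c009,
  nat_lit 0x55969, nat_lit 0x59969, nat_lit 0x5596d,
  nat_lit 0x90009, nat_lit 0x55971, nat_lit 0x59971,
  nat_lit 0x55975, nat_lit 0x5d971, nat_lit 0x55979,
  nat_lit 0x59979, nat_lit 0x5597d, nat_lit 0xc009,
  nat_lit 0x55981, nat_lit 0x59981, nat_lit 0x55985,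
  nat_lit 0x5d981, nat_lit 0x55989, nat_lit 0x59989,
  nat_lit 0x5598d, nat_lit 0x91981, nat_lit 0x55991,
  nat_lit 0x59991, nat_lit 0x55995, nat_lit 0x5d991,
  nat_lit 0x55999, nat_lit 0x59999, nat_lit 0x5599d,
  nat_lit 0x5400b, nat_lit 0x5800b, nat_lit 0x559a3,
  nat_lit 0x5c00b, nat_lit 0x559a7, nat_lit 0x599a7,
  nat_lit 0x559ab, nat_lit 0x9000b, nat_lit 0x559af,
  nat_lit 0x599af, nat_lit 0x559b3, nat_lit 0x5d9af,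
  nat_lit 0x559b7, nat_lit 0x599b7, nat_lit 0x559bb,
  nat_lit 0xc00b, nat_lit 0x559bf, nat_lit 0x599bf,
  nat_lit 0x559c3, nat_lit 0x5d9bf, nat_lit 0x559c7,
  nat_lit 0x599c7, nat_lit 0x559cb, nat_lit 0x919bf,
  nat_lit 0x559cf, nat_lit 0x599cf, nat_lit 0x559d3,
  nat_lit 0x5d9cf, nat_lit 0x559d7, nat_lit 0x599d7,
  nat_lit 0x559db, nat_lit 0x1000b, nat_lit 0x559df,
  nat_lit 0x599df, nat_lit 0x559e3, nat_lit 0x5d9df,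
  nat_lit 0x559e7, nat_lit 0x599e7, nat_lit 0x559eb,
  nat_lit 0x919df, nat_lit 0x559ef, nat_lit 0x599ef,
  nat_lit 0x559f3, nat_lit 0x5d9ef, nat_lit 0x559f7,
  nat_lit 0x599f7, nat_lit 0x559fb, nat_lit 0xd9df,
  nat_lit 0x559ff, nat_lit 0x599ff, nat_lit 0x55a03,
  nat_lit 0x5d9ff, nat_lit 0x55a07, nat_lit 0x59a07,
  nat_lit 0x55a0b, nat_lit 0x919ff, nat_lit 0x55a0f,
  nat_lit 0x59a0f, nat_lit 0x55a13, nat_lit 0x5da0f,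
  nat_lit 0x55a17, nat_lit 0x59a17, nat_lit 0x55a1b,
  nat_lit 0x5400d, nat_lit 0x5800d, nat_lit 0x55a21,
  nat_lit 0x5c00d, nat_lit 0x55a25, nat_lit 0x59a25,
  nat_lit 0x55a29, nat_lit 0x9000d, nat_lit 0x55a2d,
  nat_lit 0x59a2d, nat_lit 0x55a31, nat_lit 0x5da2d,
  nat_lit 0x55a35, nat_lit 0x59a35, nat_lit 0x55a39,
  nat_lit 0xc00d, nat_lit 0x55a3d, nat_lit 0x59a3d,
  nat_lit 0x55a41, nat_lit 0x5da3d, nat_lit 0x55a45,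
  nat_lit 0x59a45, nat_lit 0x55a49, nat_lit 0x91a3d,
  nat_lit 0x55a4d, nat_lit 0x59a4d, nat_lit 0x55a51,
  nat_lit 0x5da4d, nat_lit 0x55a55, nat_lit 0x59a55,
  nat_lit 0x55a59, nat_lit 0x1000d, nat_lit 0x55a5d,
  nat_lit 0x59a5d, nat_lit 0x55a61, nat_lit 0x5da5d,
  nat_lit 0x55a65, nat_lit 0x59a65, nat_lit 0x55a69,
  nat_lit 0x91a5d, nat_lit 0x55a6d, nat_lit 0x59a6d,
  nat_lit 0x55a71, nat_lit 0x5da6d, nat_lit 0x55a75,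
  nat_lit 0x59a75, nat_lit 0x55a79, nat_lit 0xda5d,
  nat_lit 0x55a7d, nat_lit 0x59a7d, nat_lit 0x55a81,
  nat_lit 0x5da7d, nat_lit 0x55a85, nat_lit 0x59a85,
  nat_lit 0x55a89, nat_lit 0x91a7d, nat_lit 0x55a8d,
  nat_lit 0x59a8d, nat_lit 0x55a91, nat_lit 0x5da8d,
  nat_lit 0x55a95, nat_lit 0x59a95, nat_lit 0x55a99,
  nat_lit 0x1400d, nat_lit 0x55a9d, nat_lit 0x59a9d,
  nat_lit 0x55aa1, nat_lit 0x5da9d, nat_lit 0x55aa5,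
  nat_lit 0x59aa5, nat_lit 0x55aa9, nat_lit 0x91a9d,
  nat_lit 0x55aad, nat_lit 0x59aad, nat_lit 0x55ab1,
  nat_lit 0x5daad, nat_lit 0x55ab5, nat_lit 0x59ab5,
  nat_lit 0x55ab9, nat_lit 0xda9d, nat_lit 0x55abd,
  nat_lit 0x59abd, nat_lit 0x55ac1, nat_lit 0x5dabd,
  nat_lit 0x55ac5, nat_lit 0x59ac5, nat_lit 0x55ac9,
  nat_lit 0x91abd, nat_lit 0x55acd, nat_lit 0x59acd,
  nat_lit 0x55ad1, nat_lit 0x5dacd, nat_lit 0x55ad5,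
  nat_lit 0x59ad5, nat_lit 0x55ad9, nat_lit 0x11a9d,
  nat_lit 0x55add, nat_lit 0x59add, nat_lit 0x55ae1,
  nat_lit 0x5dadd, nat_lit 0x55ae5, nat_lit 0x59ae5,
  nat_lit 0x55ae9, nat_lit 0x91add, nat_lit 0x55aed,
  nat_lit 0x59aed, nat_lit 0x55af1, nat_lit 0x5daed,
  nat_lit 0x55af5, nat_lit 0x59af5, nat_lit 0x55af9,
  nat_lit 0xdadd, nat_lit 0x55afd, nat_lit 0x59afd,
  nat_lit 0x55b01, nat_lit 0x5dafd, nat_lit 0x55b05,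
  nat_lit 0x59b05, nat_lit 0x55b09, nat_lit 0x91afd,
  nat_lit 0x55b0d, nat_lit 0x59b0d, nat_lit 0x55b11,
  nat_lit 0x5db0d, nat_lit 0x55b15, nat_lit 0x59b15,
  nat_lit 0x55b19, nat_lit 0x5400f, nat_lit 0x5800f,
  nat_lit 0x55b1f, nat_lit 0x5c00f, nat_lit 0x55b23,
  nat_lit 0x59b23, nat_lit 0x55b27, nat_lit 0x9000f,
  nat_lit 0x55b2b, nat_lit 0x59b2b, nat_lit 0x55b2f,
  nat_lit 0x5db2b, nat_lit 0x55b33, nat_lit 0x59b33,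
  nat_lit 0x55b37, nat_lit 0xc00f, nat_lit 0x55b3b,
  nat_lit 0x59b3b, nat_lit 0x55b3f, nat_lit 0x5db3b,
  nat_lit 0x55b43, nat_lit 0x59b43, nat_lit 0x55b47,
  nat_lit 0x91b3b, nat_lit 0x55b4b, nat_lit 0x59b4b,
  nat_lit 0x55b4f, nat_lit 0x5db4b, nat_lit 0x55b53,
  nat_lit 0x59b53, nat_lit 0x55b57, nat_lit 0x1000f,
  nat_lit 0x55b5b, nat_lit 0x59b5b, nat_lit 0x55b5f,
  nat_lit 0x5db5b, nat_lit 0x55b63, nat_lit 0x59b63,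
  nat_lit 0x55b67, nat_lit 0x91b5b, nat_lit 0x55b6b,
  nat_lit 0x59b6b, nat_lit 0x55b6f, nat_lit 0x5db6b,
  nat_lit 0x55b73, nat_lit 0x59b73, nat_lit 0x55b77,
  nat_lit 0xdb5b, nat_lit 0x55b7b, nat_lit 0x59b7b,
  nat_lit 0x55b7f, nat_lit 0x5db7b, nat_lit 0x55b83,
  nat_lit 0x59b83, nat_lit 0x55b87, nat_lit 0x91b7b,
  nat_lit 0x55b8b, nat_lit 0x59b8b, nat_lit 0x55b8f,
  nat_lit 0x5db8b, nat_lit 0x55b93, nat_lit 0x59b93,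
  nat_lit 0x55b97, nat_lit 0x1400f, nat_lit 0x55b9b,
  nat_lit 0x59b9b, nat_lit 0x55b9f, nat_lit 0x5db9b,
  nat_lit 0x55ba3, nat_lit 0x59ba3, nat_lit 0x55ba7,
  nat_lit 0x91b9b, nat_lit 0x55bab, nat_lit 0x59bab,
  nat_lit 0x55baf, nat_lit 0x5dbab, nat_lit 0x55bb3,
  nat_lit 0x59bb3, nat_lit 0x55bb7, nat_lit 0xdb9b,
  nat_lit 0x55bbb, nat_lit 0x59bbb, nat_lit 0x55bbf,
  nat_lit 0x5dbbb, nat_lit 0x55bc3, nat_lit 0x59bc3,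
  nat_lit 0x55bc7, nat_lit 0x91bbb, nat_lit 0x55bcb,
  nat_lit 0x59bcb, nat_lit 0x55bcf, nat_lit 0x5dbcb,
  nat_lit 0x55bd3, nat_lit 0x59bd3, nat_lit 0x55bd7,
  nat_lit 0x11b9b, nat_lit 0x55bdb, nat_lit 0x59bdb,
  nat_lit 0x55bdf, nat_lit 0x5dbdb, nat_lit 0x55be3,
  nat_lit 0x59be3, nat_lit 0x55be7, nat_lit 0x91bdb,
  nat_lit 0x55beb, nat_lit 0x59beb, nat_lit 0x55bef,
  nat_lit 0x5dbeb, nat_lit 0x55bf3, nat_lit 0x59bf3,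
  nat_lit 0x55bf7, nat_lit 0xdbdb, nat_lit 0x55bfb,
  nat_lit 0x59bfb, nat_lit 0x55bff, nat_lit 0x5dbfb,
  nat_lit 0x55c03, nat_lit 0x59c03, nat_lit 0x55c07,
  nat_lit 0x91bfb, nat_lit 0x55c0b, nat_lit 0x59c0b,
  nat_lit 0x55c0f, nat_lit 0x5dc0b, nat_lit 0x55c13,
  nat_lit 0x59c13, nat_lit 0x55c17, nat_lit 0x1800f,
  nat_lit 0x55c1b, nat_lit 0x59c1b, nat_lit 0x55c1f,
  nat_lit 0x5dc1b, nat_lit 0x55c23, nat_lit 0x59c23,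
  nat_lit 0x55c27, nat_lit 0x91c1b, nat_lit 0x55c2b,
  nat_lit 0x59c2b, nat_lit 0x55c2f, nat_lit 0x5dc2b,
  nat_lit 0x55c33, nat_lit 0x59c33, nat_lit 0x55c37,
  nat_lit 0xdc1b, nat_lit 0x55c3b, nat_lit 0x59c3b,
  nat_lit 0x55c3f, nat_lit 0x5dc3b, nat_lit 0x55c43,
  nat_lit 0x59c43, nat_lit 0x55c47, nat_lit 0x91c3b,
  nat_lit 0x55c4b, nat_lit 0x59c4b, nat_lit 0x55c4f,
  nat_lit 0x5dc4b, nat_lit 0x55c53, nat_lit 0x59c53,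
  nat_lit 0x55c57, nat_lit 0x11c1b, nat_lit 0x55c5b,
  nat_lit 0x59c5b, nat_lit 0x55c5f, nat_lit 0x5dc5b,
  nat_lit 0x55c63, nat_lit 0x59c63, nat_lit 0x55c67,
  nat_lit 0x91c5b, nat_lit 0x55c6b, nat_lit 0x59c6b,
  nat_lit 0x55c6f, nat_lit 0x5dc6b, nat_lit 0x55c73,
  nat_lit 0x59c73, nat_lit 0x55c77, nat_lit 0xdc5b,
  nat_lit 0x55c7b, nat_lit 0x59c7b, nat_lit 0x55c7f,
  nat_lit 0x5dc7b, nat_lit 0x55c83, nat_lit 0x59c83,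
  nat_lit 0x55c87, nat_lit 0x91c7b, nat_lit 0x55c8b,
  nat_lit 0x59c8b, nat_lit 0x55c8f, nat_lit 0x5dc8b,
  nat_lit 0x55c93, nat_lit 0x59c93, nat_lit 0x55c97,
  nat_lit 0x15c1b, nat_lit 0x55c9b, nat_lit 0x59c9b,
  nat_lit 0x55c9f, nat_lit 0x5dc9b, nat_lit 0x55ca3,
  nat_lit 0x59ca3, nat_lit 0x55ca7, nat_lit 0x91c9b,
  nat_lit 0x55cab, nat_lit 0x59cab, nat_lit 0x55caf,
  nat_lit 0x5dcab, nat_lit 0x55cb3, nat_lit 0x59cb3,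
  nat_lit 0x55cb7, nat_lit 0xdc9b, nat_lit 0x55cbb,
  nat_lit 0x59cbb, nat_lit 0x55cbf, nat_lit 0x5dcbb,
  nat_lit 0x55cc3, nat_lit 0x59cc3, nat_lit 0x55cc7,
  nat_lit 0x91cbb, nat_lit 0x55ccb, nat_lit 0x59ccb,
  nat_lit 0x55ccf, nat_lit 0x5dccb, nat_lit 0x55cd3,
  nat_lit 0x59cd3, nat_lit 0x55cd7, nat_lit 0x11c9b,
  nat_lit 0x55cdb, nat_lit 0x59cdb, nat_lit 0x55cdf,
  nat_lit 0x5dcdb, nat_lit 0x55ce3, nat_lit 0x59ce3,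
  nat_lit 0x55ce7, nat_lit 0x91cdb, nat_lit 0x55ceb,
  nat_lit 0x59ceb, nat_lit 0x55cef, nat_lit 0x5dceb,
  nat_lit 0x55cf3, nat_lit 0x59cf3, nat_lit 0x55cf7,
  nat_lit 0xdcdb, nat_lit 0x55cfb, nat_lit 0x59cfb,
  nat_lit 0x55cff, nat_lit 0x5dcfb, nat_lit 0x55d03,
  nat_lit 0x59d03, nat_lit 0x55d07, nat_lit 0x91cfb,
  nat_lit 0x55d0b, nat_lit 0x59d0b, nat_lit 0x55d0f,
  nat_lit 0x5dd0b, nat_lit 0x55d13, nat_lit 0x59d13,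
  nat_lit 0x55d17, nat_lit 0x54011, nat_lit 0x58011,
  nat_lit 0x55d1d, nat_lit 0x5c011, nat_lit 0x55d21,
  nat_lit 0x59d21, nat_lit 0x55d25, nat_lit 0x90011,
  nat_lit 0x55d29, nat_lit 0x59d29, nat_lit 0x55d2d,
  nat_lit 0x5dd29, nat_lit 0x55d31, nat_lit 0x59d31,
  nat_lit 0x55d35, nat_lit 0xc011, nat_lit 0x55d39,
  nat_lit 0x59d39, nat_lit 0x55d3d, nat_lit 0x5dd39,
  nat_lit 0x55d41, nat_lit 0x59d41, nat_lit 0x55d45,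
  nat_lit 0x91d39, nat_lit 0x55d49, nat_lit 0x59d49,
  nat_lit 0x55d4d, nat_lit 0x5dd49, nat_lit 0x55d51,
  nat_lit 0x59d51, nat_lit 0x55d55, nat_lit 0x10011,
  nat_lit 0x55d59, nat_lit 0x59d59, nat_lit 0x55d5d,
  nat_lit 0x5dd59, nat_lit 0x55d61, nat_lit 0x59d61,
  nat_lit 0x55d65, nat_lit 0x91d59, nat_lit 0x55d69,
  nat_lit 0x59d69, nat_lit 0x55d6d, nat_lit 0x5dd69,
  nat_lit 0x55d71, nat_lit 0x59d71, nat_lit 0x55d75,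
  nat_lit 0xdd59, nat_lit 0x55d79, nat_lit 0x59d79,
  nat_lit 0x55d7d, nat_lit 0x5dd79, nat_lit 0x55d81,
  nat_lit 0x59d81, nat_lit 0x55d85, nat_lit 0x91d79,
  nat_lit 0x55d89, nat_lit 0x59d89, nat_lit 0x55d8d,
  nat_lit 0x5dd89, nat_lit 0x55d91, nat_lit 0x59d91,
  nat_lit 0x55d95, nat_lit 0x14011, nat_lit 0x55d99,
  nat_lit 0x59d99, nat_lit 0x55d9d, nat_lit 0x5dd99,
  nat_lit 0x55da1, nat_lit 0x59da1, nat_lit 0x55da5,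
  nat_lit 0x91d99, nat_lit 0x55da9, nat_lit 0x59da9,
  nat_lit 0x55dad, nat_lit 0x5dda9, nat_lit 0x55db1,
  nat_lit 0x59db1, nat_lit 0x55db5, nat_lit 0xdd99,
  nat_lit 0x55db9, nat_lit 0x59db9, nat_lit 0x55dbd,
  nat_lit 0x5ddb9, nat_lit 0x55dc1, nat_lit 0x59dc1,
  nat_lit 0x55dc5, nat_lit 0x91db9, nat_lit 0x55dc9,
  nat_lit 0x59dc9, nat_lit 0x55dcd, nat_lit 0x5ddc9,
  nat_lit 0x55dd1, nat_lit 0x59dd1, nat_lit 0x55dd5,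
  nat_lit 0x11d99, nat_lit 0x55dd9, nat_lit 0x59dd9,
  nat_lit 0x55ddd, nat_lit 0x5ddd9, nat_lit 0x55de1,
  nat_lit 0x59de1, nat_lit 0x55de5, nat_lit 0x91dd9,
  nat_lit 0x55de9, nat_lit 0x59de9, nat_lit 0x55ded,
  nat_lit 0x5dde9, nat_lit 0x55df1, nat_lit 0x59df1,
  nat_lit 0x55df5, nat_lit 0xddd9, nat_lit 0x55df9,
  nat_lit 0x59df9, nat_lit 0x55dfd, nat_lit 0x5ddf9,
  nat_lit 0x55e01, nat_lit 0x59e01, nat_lit 0x55e05,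
  nat_lit 0x91df9, nat_lit 0x55e09, nat_lit 0x59e09,
  nat_lit 0x55e0d, nat_lit 0x5de09, nat_lit 0x55e11,
  nat_lit 0x59e11, nat_lit 0x55e15, nat_lit 0x18011,
  nat_lit 0x55e19, nat_lit 0x59e19, nat_lit 0x55e1d,
  nat_lit 0x5de19, nat_lit 0x55e21, nat_lit 0x59e21,
  nat_lit 0x55e25, nat_lit 0x91e19, nat_lit 0x55e29,
  nat_lit 0x59e29, nat_lit 0x55e2d, nat_lit 0x5de29,
  nat_lit 0x55e31, nat_lit 0x59e31, nat_lit 0x55e35,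
  nat_lit 0xde19, nat_lit 0x55e39, nat_lit 0x59e39,
  nat_lit 0x55e3d, nat_lit 0x5de39, nat_lit 0x55e41,
  nat_lit 0x59e41, nat_lit 0x55e45, nat_lit 0x91e39,
  nat_lit 0x55e49, nat_lit 0x59e49, nat_lit 0x55e4d,
  nat_lit 0x5de49, nat_lit 0x55e51, nat_lit 0x59e51,
  nat_lit 0x55e55, nat_lit 0x11e19, nat_lit 0x55e59,
  nat_lit 0x59e59, nat_lit 0x55e5d, nat_lit 0x5de59,
  nat_lit 0x55e61, nat_lit 0x59e61, nat_lit 0x55e65,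
  nat_lit 0x91e59, nat_lit 0x55e69, nat_lit 0x59e69,
  nat_lit 0x55e6d, nat_lit 0x5de69, nat_lit 0x55e71,
  nat_lit 0x59e71, nat_lit 0x55e75, nat_lit 0xde59,
  nat_lit 0x55e79, nat_lit 0x59e79, nat_lit 0x55e7d,
  nat_lit 0x5de79, nat_lit 0x55e81, nat_lit 0x59e81,
  nat_lit 0x55e85, nat_lit 0x91e79, nat_lit 0x55e89,
  nat_lit 0x59e89, nat_lit 0x55e8d, nat_lit 0x5de89,
  nat_lit 0x55e91, nat_lit 0x59e91, nat_lit 0x55e95,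
  nat_lit 0x15e19, nat_lit 0x55e99, nat_lit 0x59e99,
  nat_lit 0x55e9d, nat_lit 0x5de99, nat_lit 0x55ea1,
  nat_lit 0x59ea1, nat_lit 0x55ea5, nat_lit 0x91e99,
  nat_lit 0x55ea9, nat_lit 0x59ea9, nat_lit 0x55ead,
  nat_lit 0x5dea9, nat_lit 0x55eb1, nat_lit 0x59eb1,
  nat_lit 0x55eb5, nat_lit 0xde99, nat_lit 0x55eb9,
  nat_lit 0x59eb9, nat_lit 0x55ebd, nat_lit 0x5deb9,
  nat_lit 0x55ec1, nat_lit 0x59ec1, nat_lit 0x55ec5,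
  nat_lit 0x91eb9, nat_lit 0x55ec9, nat_lit 0x59ec9,
  nat_lit 0x55ecd, nat_lit 0x5dec9, nat_lit 0x55ed1,
  nat_lit 0x59ed1, nat_lit 0x55ed5, nat_lit 0x11e99,
  nat_lit 0x55ed9, nat_lit 0x59ed9, nat_lit 0x55edd,
  nat_lit 0x5ded9, nat_lit 0x55ee1, nat_lit 0x59ee1,
  nat_lit 0x55ee5, nat_lit 0x91ed9, nat_lit 0x55ee9,
  nat_lit 0x59ee9, nat_lit 0x55eed, nat_lit 0x5dee9,
  nat_lit 0x55ef1, nat_lit 0x59ef1, nat_lit 0x55ef5,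
  nat_lit 0xded9, nat_lit 0x55ef9, nat_lit 0x59ef9,
  nat_lit 0x55efd, nat_lit 0x5def9, nat_lit 0x55f01,
  nat_lit 0x59f01, nat_lit 0x55f05, nat_lit 0x91ef9,
  nat_lit 0x55f09, nat_lit 0x59f09, nat_lit 0x55f0d,
  nat_lit 0x5df09, nat_lit 0x55f11, nat_lit 0x59f11,
  nat_lit 0x55f15, nat_lit 0x1c011, nat_lit 0x55f19,
  nat_lit 0x59f19, nat_lit 0x55f1d, nat_lit 0x5df19,
  nat_lit 0x55f21, nat_lit 0x59f21, nat_lit 0x55f25,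
  nat_lit 0x91f19, nat_lit 0x55f29, nat_lit 0x59f29,
  nat_lit 0x55f2d, nat_lit 0x5df29, nat_lit 0x55f31,
  nat_lit 0x59f31, nat_lit 0x55f35, nat_lit 0xdf19,
  nat_lit 0x55f39, nat_lit 0x59f39, nat_lit 0x55f3d,
  nat_lit 0x5df39]

theorem ckA3 : chkL ruleA AL0 (nat_lit 4001) ceA3 (nat_lit 3001) = true := by decide +kernel

def ceA4 : List ℕ :=
 [nat_lit 0x55f41, nat_lit 0x59f41, nat_lit 0x55f45,
  nat_lit 0x91f39, nat_lit 0x55f49, nat_lit 0x59f49,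
  nat_lit 0x55f4d, nat_lit 0x5df49, nat_lit 0x55f51,
  nat_lit 0x59f51, nat_lit 0x55f55, nat_lit 0x11f19,
  nat_lit 0x55f59, nat_lit 0x59f59, nat_lit 0x55f5d,
  nat_lit 0x5df59, nat_lit 0x55f61, nat_lit 0x59f61,
  nat_lit 0x55f65, nat_lit 0x91f59, nat_lit 0x55f69,
  nat_lit 0x59f69, nat_lit 0x55f6d, nat_lit 0x5df69,
  nat_lit 0x55f71, nat_lit 0x59f71, nat_lit 0x55f75,
  nat_lit 0xdf59, nat_lit 0x55f79, nat_lit 0x59f79,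
  nat_lit 0x55f7d, nat_lit 0x5df79, nat_lit 0x55f81,
  nat_lit 0x59f81, nat_lit 0x55f85, nat_lit 0x91f79,
  nat_lit 0x55f89, nat_lit 0x59f89, nat_lit 0x55f8d,
  nat_lit 0x5df89, nat_lit 0x55f91, nat_lit 0x59f91,
  nat_lit 0x55f95, nat_lit 0x15f19, nat_lit 0x55f99,
  nat_lit 0x59f99, nat_lit 0x55f9d, nat_lit 0x5df99,
  nat_lit 0x55fa1, nat_lit 0x59fa1, nat_lit 0x55fa5,
  nat_lit 0x91f99, nat_lit 0x55fa9, nat_lit 0x59fa9,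
  nat_lit 0x55fad, nat_lit 0x5dfa9, nat_lit 0x55fb1,
  nat_lit 0x59fb1, nat_lit 0x55fb5, nat_lit 0xdf99,
  nat_lit 0x55fb9, nat_lit 0x59fb9, nat_lit 0x55fbd,
  nat_lit 0x5dfb9, nat_lit 0x55fc1, nat_lit 0x59fc1,
  nat_lit 0x55fc5, nat_lit 0x91fb9, nat_lit 0x55fc9,
  nat_lit 0x59fc9, nat_lit 0x55fcd, nat_lit 0x5dfc9,
  nat_lit 0x55fd1, nat_lit 0x59fd1, nat_lit 0x55fd5,
  nat_lit 0x11f99, nat_lit 0x55fd9, nat_lit 0x59fd9,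
  nat_lit 0x55fdd, nat_lit 0x5dfd9, nat_lit 0x55fe1,
  nat_lit 0x59fe1, nat_lit 0x55fe5, nat_lit 0x91fd9,
  nat_lit 0x55fe9, nat_lit 0x59fe9, nat_lit 0x55fed,
  nat_lit 0x5dfe9, nat_lit 0x55ff1, nat_lit 0x59ff1,
  nat_lit 0x55ff5, nat_lit 0xdfd9, nat_lit 0x55ff9,
  nat_lit 0x59ff9, nat_lit 0x55ffd, nat_lit 0x5dff9,
  nat_lit 0x56001, nat_lit 0x5a001, nat_lit 0x56005,
  nat_lit 0x91ff9, nat_lit 0x56009, nat_lit 0x5a009,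
  nat_lit 0x5600d, nat_lit 0x5e009, nat_lit 0x56011,
  nat_lit 0x5a011, nat_lit 0x56015, nat_lit 0x19f19,
  nat_lit 0x56019, nat_lit 0x5a019, nat_lit 0x5601d,
  nat_lit 0x5e019, nat_lit 0x56021, nat_lit 0x5a021,
  nat_lit 0x56025, nat_lit 0x92019, nat_lit 0x56029,
  nat_lit 0x5a029, nat_lit 0x5602d, nat_lit 0x5e029,
  nat_lit 0x56031, nat_lit 0x5a031, nat_lit 0x56035,
  nat_lit 0xe019, nat_lit 0x56039, nat_lit 0x5a039,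
  nat_lit 0x5603d, nat_lit 0x5e039, nat_lit 0x56041,
  nat_lit 0x5a041, nat_lit 0x56045, nat_lit 0x92039,
  nat_lit 0x56049, nat_lit 0x5a049, nat_lit 0x5604d,
  nat_lit 0x5e049, nat_lit 0x56051, nat_lit 0x5a051,
  nat_lit 0x56055, nat_lit 0x12019, nat_lit 0x56059,
  nat_lit 0x5a059, nat_lit 0x5605d, nat_lit 0x5e059,
  nat_lit 0x56061, nat_lit 0x5a061, nat_lit 0x56065,
  nat_lit 0x92059, nat_lit 0x56069, nat_lit 0x5a069,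
  nat_lit 0x5606d, nat_lit 0x5e069, nat_lit 0x56071,
  nat_lit 0x5a071, nat_lit 0x56075, nat_lit 0xe059,
  nat_lit 0x56079, nat_lit 0x5a079, nat_lit 0x5607d,
  nat_lit 0x5e079, nat_lit 0x56081, nat_lit 0x5a081,
  nat_lit 0x56085, nat_lit 0x92079, nat_lit 0x56089,
  nat_lit 0x5a089, nat_lit 0x5608d, nat_lit 0x5e089,
  nat_lit 0x56091, nat_lit 0x5a091, nat_lit 0x56095,
  nat_lit 0x16019, nat_lit 0x56099, nat_lit 0x5a099,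
  nat_lit 0x5609d, nat_lit 0x5e099, nat_lit 0x560a1,
  nat_lit 0x5a0a1, nat_lit 0x560a5, nat_lit 0x92099,
  nat_lit 0x560a9, nat_lit 0x5a0a9, nat_lit 0x560ad,
  nat_lit 0x5e0a9, nat_lit 0x560b1, nat_lit 0x5a0b1,
  nat_lit 0x560b5, nat_lit 0xe099, nat_lit 0x560b9,
  nat_lit 0x5a0b9, nat_lit 0x560bd, nat_lit 0x5e0b9,
  nat_lit 0x560c1, nat_lit 0x5a0c1, nat_lit 0x560c5,
  nat_lit 0x920b9, nat_lit 0x560c9, nat_lit 0x5a0c9,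
  nat_lit 0x560cd, nat_lit 0x5e0c9, nat_lit 0x560d1,
  nat_lit 0x5a0d1, nat_lit 0x560d5, nat_lit 0x12099,
  nat_lit 0x560d9, nat_lit 0x5a0d9, nat_lit 0x560dd,
  nat_lit 0x5e0d9, nat_lit 0x560e1, nat_lit 0x5a0e1,
  nat_lit 0x560e5, nat_lit 0x920d9, nat_lit 0x560e9,
  nat_lit 0x5a0e9, nat_lit 0x560ed, nat_lit 0x5e0e9,
  nat_lit 0x560f1, nat_lit 0x5a0f1, nat_lit 0x560f5,
  nat_lit 0xe0d9, nat_lit 0x560f9, nat_lit 0x5a0f9,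
  nat_lit 0x560fd, nat_lit 0x5e0f9, nat_lit 0x56101,
  nat_lit 0x5a101, nat_lit 0x56105, nat_lit 0x920f9,
  nat_lit 0x56109, nat_lit 0x5a109, nat_lit 0x5610d,
  nat_lit 0x5e109, nat_lit 0x56111, nat_lit 0x5a111,
  nat_lit 0x56115, nat_lit 0x88047, nat_lit 0x8801b,
  nat_lit 0x8c01b, nat_lit 0x8a11d, nat_lit 0x8801d,
  nat_lit 0x8c01d, nat_lit 0x8a123, nat_lit 0x3401d,
  nat_lit 0x8a127, nat_lit 0x8e127, nat_lit 0x8a12b,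
  nat_lit 0x8801f, nat_lit 0x8c01f, nat_lit 0x8a131,
  nat_lit 0x3401f, nat_lit 0x8a135, nat_lit 0x8e135,
  nat_lit 0x8a139, nat_lit 0x3801f, nat_lit 0x8a13d,
  nat_lit 0x8e13d, nat_lit 0x8a141, nat_lit 0x3613d,
  nat_lit 0x8a145, nat_lit 0x8e145, nat_lit 0x8a149,
  nat_lit 0x88021, nat_lit 0x8c021, nat_lit 0x8a14f,
  nat_lit 0x34021, nat_lit 0x8a153, nat_lit 0x8e153,
  nat_lit 0x8a157, nat_lit 0x38021, nat_lit 0x8a15b,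
  nat_lit 0x8e15b, nat_lit 0x8a15f, nat_lit 0x3615b,
  nat_lit 0x8a163, nat_lit 0x8e163, nat_lit 0x8a167,
  nat_lit 0x3c021, nat_lit 0x8a16b, nat_lit 0x8e16b,
  nat_lit 0x8a16f, nat_lit 0x3616b, nat_lit 0x8a173,
  nat_lit 0x8e173, nat_lit 0x8a177, nat_lit 0x3a16b,
  nat_lit 0x8a17b, nat_lit 0x8e17b, nat_lit 0x8a17f,
  nat_lit 0x3617b, nat_lit 0x8a183, nat_lit 0x8e183,
  nat_lit 0x8a187, nat_lit 0x88023, nat_lit 0x8c023,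
  nat_lit 0x8a18d, nat_lit 0x34023, nat_lit 0x8a191,
  nat_lit 0x8e191, nat_lit 0x8a195, nat_lit 0x38023,
  nat_lit 0x8a199, nat_lit 0x8e199, nat_lit 0x8a19d,
  nat_lit 0x36199, nat_lit 0x8a1a1, nat_lit 0x8e1a1,
  nat_lit 0x8a1a5, nat_lit 0x3c023, nat_lit 0x8a1a9,
  nat_lit 0x8e1a9, nat_lit 0x8a1ad, nat_lit 0x361a9,
  nat_lit 0x8a1b1, nat_lit 0x8e1b1, nat_lit 0x8a1b5,
  nat_lit 0x3a1a9, nat_lit 0x8a1b9, nat_lit 0x8e1b9,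
  nat_lit 0x8a1bd, nat_lit 0x361b9, nat_lit 0x8a1c1,
  nat_lit 0x8e1c1, nat_lit 0x8a1c5, nat_lit 0x40023,
  nat_lit 0x8a1c9, nat_lit 0x8e1c9, nat_lit 0x8a1cd,
  nat_lit 0x361c9, nat_lit 0x8a1d1, nat_lit 0x8e1d1,
  nat_lit 0x8a1d5, nat_lit 0x3a1c9, nat_lit 0x8a1d9,
  nat_lit 0x8e1d9, nat_lit 0x8a1dd, nat_lit 0x361d9,
  nat_lit 0x8a1e1, nat_lit 0x8e1e1, nat_lit 0x8a1e5,
  nat_lit 0x3e1c9, nat_lit 0x8a1e9, nat_lit 0x8e1e9,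
  nat_lit 0x8a1ed, nat_lit 0x361e9, nat_lit 0x8a1f1,
  nat_lit 0x8e1f1, nat_lit 0x8a1f5, nat_lit 0x3a1e9,
  nat_lit 0x8a1f9, nat_lit 0x8e1f9, nat_lit 0x8a1fd,
  nat_lit 0x361f9, nat_lit 0x8a201, nat_lit 0x8e201,
  nat_lit 0x8a205, nat_lit 0x88025, nat_lit 0x8c025,
  nat_lit 0x8a20b, nat_lit 0x34025, nat_lit 0x8a20f,
  nat_lit 0x8e20f, nat_lit 0x8a213, nat_lit 0x38025,
  nat_lit 0x8a217, nat_lit 0x8e217, nat_lit 0x8a21b,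
  nat_lit 0x36217, nat_lit 0x8a21f, nat_lit 0x8e21f,
  nat_lit 0x8a223, nat_lit 0x3c025, nat_lit 0x8a227,
  nat_lit 0x8e227, nat_lit 0x8a22b, nat_lit 0x36227,
  nat_lit 0x8a22f, nat_lit 0x8e22f, nat_lit 0x8a233,
  nat_lit 0x3a227, nat_lit 0x8a237, nat_lit 0x8e237,
  nat_lit 0x8a23b, nat_lit 0x36237, nat_lit 0x8a23f,
  nat_lit 0x8e23f, nat_lit 0x8a243, nat_lit 0x40025,
  nat_lit 0x8a247, nat_lit 0x8e247, nat_lit 0x8a24b,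
  nat_lit 0x36247, nat_lit 0x8a24f, nat_lit 0x8e24f,
  nat_lit 0x8a253, nat_lit 0x3a247, nat_lit 0x8a257,
  nat_lit 0x8e257, nat_lit 0x8a25b, nat_lit 0x36257,
  nat_lit 0x8a25f, nat_lit 0x8e25f, nat_lit 0x8a263,
  nat_lit 0x3e247, nat_lit 0x8a267, nat_lit 0x8e267,
  nat_lit 0x8a26b, nat_lit 0x36267, nat_lit 0x8a26f,
  nat_lit 0x8e26f, nat_lit 0x8a273, nat_lit 0x3a267,
  nat_lit 0x8a277, nat_lit 0x8e277, nat_lit 0x8a27b,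
  nat_lit 0x36277, nat_lit 0x8a27f, nat_lit 0x8e27f,
  nat_lit 0x8a283, nat_lit 0x44025, nat_lit 0x8a287,
  nat_lit 0x8e287, nat_lit 0x8a28b, nat_lit 0x36287,
  nat_lit 0x8a28f, nat_lit 0x8e28f, nat_lit 0x8a293,
  nat_lit 0x3a287, nat_lit 0x8a297, nat_lit 0x8e297,
  nat_lit 0x8a29b, nat_lit 0x36297, nat_lit 0x8a29f,
  nat_lit 0x8e29f, nat_lit 0x8a2a3, nat_lit 0x3e287,
  nat_lit 0x8a2a7, nat_lit 0x8e2a7, nat_lit 0x8a2ab,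
  nat_lit 0x362a7, nat_lit 0x8a2af, nat_lit 0x8e2af,
  nat_lit 0x8a2b3, nat_lit 0x3a2a7, nat_lit 0x8a2b7,
  nat_lit 0x8e2b7, nat_lit 0x8a2bb, nat_lit 0x362b7,
  nat_lit 0x8a2bf, nat_lit 0x8e2bf, nat_lit 0x8a2c3,
  nat_lit 0x42287, nat_lit 0x8a2c7, nat_lit 0x8e2c7,
  nat_lit 0x8a2cb, nat_lit 0x362c7, nat_lit 0x8a2cf,
  nat_lit 0x8e2cf, nat_lit 0x8a2d3, nat_lit 0x3a2c7,
  nat_lit 0x8a2d7, nat_lit 0x8e2d7, nat_lit 0x8a2db,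
  nat_lit 0x362d7, nat_lit 0x8a2df, nat_lit 0x8e2df,
  nat_lit 0x8a2e3, nat_lit 0x3e2c7, nat_lit 0x8a2e7,
  nat_lit 0x8e2e7, nat_lit 0x8a2eb, nat_lit 0x362e7,
  nat_lit 0x8a2ef, nat_lit 0x8e2ef, nat_lit 0x8a2f3,
  nat_lit 0x3a2e7, nat_lit 0x8a2f7, nat_lit 0x8e2f7,
  nat_lit 0x8a2fb, nat_lit 0x362f7, nat_lit 0x8a2ff,
  nat_lit 0x8e2ff, nat_lit 0x8a303, nat_lit 0x88027,
  nat_lit 0x8c027, nat_lit 0x8a309, nat_lit 0x34027,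
  nat_lit 0x8a30d, nat_lit 0x8e30d, nat_lit 0x8a311,
  nat_lit 0x38027, nat_lit 0x8a315, nat_lit 0x8e315,
  nat_lit 0x8a319, nat_lit 0x36315, nat_lit 0x8a31d,
  nat_lit 0x8e31d, nat_lit 0x8a321, nat_lit 0x3c027,
  nat_lit 0x8a325, nat_lit 0x8e325, nat_lit 0x8a329,
  nat_lit 0x36325, nat_lit 0x8a32d, nat_lit 0x8e32d,
  nat_lit 0x8a331, nat_lit 0x3a325, nat_lit 0x8a335,
  nat_lit 0x8e335, nat_lit 0x8a339, nat_lit 0x36335,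
  nat_lit 0x8a33d, nat_lit 0x8e33d, nat_lit 0x8a341,
  nat_lit 0x40027, nat_lit 0x8a345, nat_lit 0x8e345,
  nat_lit 0x8a349, nat_lit 0x36345, nat_lit 0x8a34d,
  nat_lit 0x8e34d, nat_lit 0x8a351, nat_lit 0x3a345,
  nat_lit 0x8a355, nat_lit 0x8e355, nat_lit 0x8a359,
  nat_lit 0x36355, nat_lit 0x8a35d, nat_lit 0x8e35d,
  nat_lit 0x8a361, nat_lit 0x3e345, nat_lit 0x8a365,
  nat_lit 0x8e365, nat_lit 0x8a369, nat_lit 0x36365,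
  nat_lit 0x8a36d, nat_lit 0x8e36d, nat_lit 0x8a371,
  nat_lit 0x3a365, nat_lit 0x8a375, nat_lit 0x8e375,
  nat_lit 0x8a379, nat_lit 0x36375, nat_lit 0x8a37d,
  nat_lit 0x8e37d, nat_lit 0x8a381, nat_lit 0x44027,
  nat_lit 0x8a385, nat_lit 0x8e385, nat_lit 0x8a389,
  nat_lit 0x36385, nat_lit 0x8a38d, nat_lit 0x8e38d,
  nat_lit 0x8a391, nat_lit 0x3a385, nat_lit 0x8a395,
  nat_lit 0x8e395, nat_lit 0x8a399, nat_lit 0x36395,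
  nat_lit 0x8a39d, nat_lit 0x8e39d, nat_lit 0x8a3a1,
  nat_lit 0x3e385, nat_lit 0x8a3a5, nat_lit 0x8e3a5,
  nat_lit 0x8a3a9, nat_lit 0x363a5, nat_lit 0x8a3ad,
  nat_lit 0x8e3ad, nat_lit 0x8a3b1, nat_lit 0x3a3a5,
  nat_lit 0x8a3b5, nat_lit 0x8e3b5, nat_lit 0x8a3b9,
  nat_lit 0x363b5, nat_lit 0x8a3bd, nat_lit 0x8e3bd,
  nat_lit 0x8a3c1, nat_lit 0x42385, nat_lit 0x8a3c5,
  nat_lit 0x8e3c5, nat_lit 0x8a3c9, nat_lit 0x363c5,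
  nat_lit 0x8a3cd, nat_lit 0x8e3cd, nat_lit 0x8a3d1,
  nat_lit 0x3a3c5, nat_lit 0x8a3d5, nat_lit 0x8e3d5,
  nat_lit 0x8a3d9, nat_lit 0x363d5, nat_lit 0x8a3dd,
  nat_lit 0x8e3dd, nat_lit 0x8a3e1, nat_lit 0x3e3c5,
  nat_lit 0x8a3e5, nat_lit 0x8e3e5, nat_lit 0x8a3e9,
  nat_lit 0x363e5, nat_lit 0x8a3ed, nat_lit 0x8e3ed,
  nat_lit 0x8a3f1, nat_lit 0x3a3e5, nat_lit 0x8a3f5,
  nat_lit 0x8e3f5, nat_lit 0x8a3f9, nat_lit 0x363f5,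
  nat_lit 0x8a3fd, nat_lit 0x8e3fd, nat_lit 0x8a401,
  nat_lit 0x48027, nat_lit 0x8a405, nat_lit 0x8e405,
  nat_lit 0x8a409, nat_lit 0x36405, nat_lit 0x8a40d,
  nat_lit 0x8e40d, nat_lit 0x8a411, nat_lit 0x3a405,
  nat_lit 0x8a415, nat_lit 0x8e415, nat_lit 0x8a419,
  nat_lit 0x36415, nat_lit 0x8a41d, nat_lit 0x8e41d,
  nat_lit 0x8a421, nat_lit 0x3e405, nat_lit 0x8a425,
  nat_lit 0x8e425, nat_lit 0x8a429, nat_lit 0x36425,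
  nat_lit 0x8a42d, nat_lit 0x8e42d, nat_lit 0x8a431,
  nat_lit 0x3a425, nat_lit 0x8a435, nat_lit 0x8e435,
  nat_lit 0x8a439, nat_lit 0x36435, nat_lit 0x8a43d,
  nat_lit 0x8e43d, nat_lit 0x8a441, nat_lit 0x42405,
  nat_lit 0x8a445, nat_lit 0x8e445, nat_lit 0x8a449,
  nat_lit 0x36445, nat_lit 0x8a44d, nat_lit 0x8e44d,
  nat_lit 0x8a451, nat_lit 0x3a445, nat_lit 0x8a455,
  nat_lit 0x8e455, nat_lit 0x8a459, nat_lit 0x36455,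
  nat_lit 0x8a45d, nat_lit 0x8e45d, nat_lit 0x8a461,
  nat_lit 0x3e445, nat_lit 0x8a465, nat_lit 0x8e465,
  nat_lit 0x8a469, nat_lit 0x36465, nat_lit 0x8a46d,
  nat_lit 0x8e46d, nat_lit 0x8a471, nat_lit 0x3a465,
  nat_lit 0x8a475, nat_lit 0x8e475, nat_lit 0x8a479,
  nat_lit 0x36475, nat_lit 0x8a47d, nat_lit 0x8e47d,
  nat_lit 0x8a481, nat_lit 0x46405, nat_lit 0x8a485,
  nat_lit 0x8e485, nat_lit 0x8a489, nat_lit 0x36485,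
  nat_lit 0x8a48d, nat_lit 0x8e48d, nat_lit 0x8a491,
  nat_lit 0x3a485, nat_lit 0x8a495, nat_lit 0x8e495,
  nat_lit 0x8a499, nat_lit 0x36495, nat_lit 0x8a49d,
  nat_lit 0x8e49d, nat_lit 0x8a4a1, nat_lit 0x3e485,
  nat_lit 0x8a4a5, nat_lit 0x8e4a5, nat_lit 0x8a4a9,
  nat_lit 0x364a5, nat_lit 0x8a4ad, nat_lit 0x8e4ad,
  nat_lit 0x8a4b1, nat_lit 0x3a4a5, nat_lit 0x8a4b5,
  nat_lit 0x8e4b5, nat_lit 0x8a4b9, nat_lit 0x364b5,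
  nat_lit 0x8a4bd, nat_lit 0x8e4bd, nat_lit 0x8a4c1,
  nat_lit 0x42485, nat_lit 0x8a4c5, nat_lit 0x8e4c5,
  nat_lit 0x8a4c9, nat_lit 0x364c5, nat_lit 0x8a4cd,
  nat_lit 0x8e4cd, nat_lit 0x8a4d1, nat_lit 0x3a4c5,
  nat_lit 0x8a4d5, nat_lit 0x8e4d5, nat_lit 0x8a4d9,
  nat_lit 0x364d5, nat_lit 0x8a4dd, nat_lit 0x8e4dd,
  nat_lit 0x8a4e1, nat_lit 0x3e4c5, nat_lit 0x8a4e5,
  nat_lit 0x8e4e5, nat_lit 0x8a4e9, nat_lit 0x364e5,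
  nat_lit 0x8a4ed, nat_lit 0x8e4ed, nat_lit 0x8a4f1,
  nat_lit 0x3a4e5, nat_lit 0x8a4f5, nat_lit 0x8e4f5,
  nat_lit 0x8a4f9, nat_lit 0x364f5, nat_lit 0x8a4fd,
  nat_lit 0x8e4fd, nat_lit 0x8a501, nat_lit 0x88029,
  nat_lit 0x8c029, nat_lit 0x8a507, nat_lit 0x34029,
  nat_lit 0x8a50b, nat_lit 0x8e50b, nat_lit 0x8a50f,
  nat_lit 0x38029, nat_lit 0x8a513, nat_lit 0x8e513,
  nat_lit 0x8a517, nat_lit 0x36513, nat_lit 0x8a51b,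
  nat_lit 0x8e51b, nat_lit 0x8a51f, nat_lit 0x3c029,
  nat_lit 0x8a523, nat_lit 0x8e523, nat_lit 0x8a527,
  nat_lit 0x36523, nat_lit 0x8a52b, nat_lit 0x8e52b,
  nat_lit 0x8a52f, nat_lit 0x3a523, nat_lit 0x8a533,
  nat_lit 0x8e533, nat_lit 0x8a537, nat_lit 0x36533,
  nat_lit 0x8a53b, nat_lit 0x8e53b, nat_lit 0x8a53f,
  nat_lit 0x40029, nat_lit 0x8a543, nat_lit 0x8e543,
  nat_lit 0x8a547, nat_lit 0x36543, nat_lit 0x8a54b,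
  nat_lit 0x8e54b, nat_lit 0x8a54f, nat_lit 0x3a543,
  nat_lit 0x8a553, nat_lit 0x8e553, nat_lit 0x8a557,
  nat_lit 0x36553, nat_lit 0x8a55b, nat_lit 0x8e55b,
  nat_lit 0x8a55f, nat_lit 0x3e543, nat_lit 0x8a563,
  nat_lit 0x8e563, nat_lit 0x8a567, nat_lit 0x36563,
  nat_lit 0x8a56b, nat_lit 0x8e56b, nat_lit 0x8a56f,
  nat_lit 0x3a563, nat_lit 0x8a573, nat_lit 0x8e573,
  nat_lit 0x8a577, nat_lit 0x36573, nat_lit 0x8a57b,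
  nat_lit 0x8e57b, nat_lit 0x8a57f, nat_lit 0x44029,
  nat_lit 0x8a583, nat_lit 0x8e583, nat_lit 0x8a587,
  nat_lit 0x36583, nat_lit 0x8a58b, nat_lit 0x8e58b,
  nat_lit 0x8a58f, nat_lit 0x3a583, nat_lit 0x8a593,
  nat_lit 0x8e593, nat_lit 0x8a597, nat_lit 0x36593,
  nat_lit 0x8a59b, nat_lit 0x8e59b, nat_lit 0x8a59f,
  nat_lit 0x3e583, nat_lit 0x8a5a3, nat_lit 0x8e5a3,
  nat_lit 0x8a5a7, nat_lit 0x365a3, nat_lit 0x8a5ab,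
  nat_lit 0x8e5ab, nat_lit 0x8a5af, nat_lit 0x3a5a3,
  nat_lit 0x8a5b3, nat_lit 0x8e5b3, nat_lit 0x8a5b7,
  nat_lit 0x365b3, nat_lit 0x8a5bb, nat_lit 0x8e5bb,
  nat_lit 0x8a5bf, nat_lit 0x42583, nat_lit 0x8a5c3,
  nat_lit 0x8e5c3, nat_lit 0x8a5c7, nat_lit 0x365c3,
  nat_lit 0x8a5cb, nat_lit 0x8e5cb, nat_lit 0x8a5cf,
  nat_lit 0x3a5c3, nat_lit 0x8a5d3, nat_lit 0x8e5d3,
  nat_lit 0x8a5d7, nat_lit 0x365d3, nat_lit 0x8a5db,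
  nat_lit 0x8e5db, nat_lit 0x8a5df, nat_lit 0x3e5c3,
  nat_lit 0x8a5e3, nat_lit 0x8e5e3, nat_lit 0x8a5e7,
  nat_lit 0x365e3, nat_lit 0x8a5eb, nat_lit 0x8e5eb,
  nat_lit 0x8a5ef, nat_lit 0x3a5e3, nat_lit 0x8a5f3,
  nat_lit 0x8e5f3, nat_lit 0x8a5f7, nat_lit 0x365f3,
  nat_lit 0x8a5fb, nat_lit 0x8e5fb, nat_lit 0x8a5ff,
  nat_lit 0x48029, nat_lit 0x8a603, nat_lit 0x8e603,
  nat_lit 0x8a607, nat_lit 0x36603, nat_lit 0x8a60b,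
  nat_lit 0x8e60b, nat_lit 0x8a60f, nat_lit 0x3a603,
  nat_lit 0x8a613, nat_lit 0x8e613, nat_lit 0x8a617,
  nat_lit 0x36613, nat_lit 0x8a61b, nat_lit 0x8e61b,
  nat_lit 0x8a61f, nat_lit 0x3e603, nat_lit 0x8a623,
  nat_lit 0x8e623, nat_lit 0x8a627, nat_lit 0x36623,
  nat_lit 0x8a62b, nat_lit 0x8e62b, nat_lit 0x8a62f,
  nat_lit 0x3a623, nat_lit 0x8a633, nat_lit 0x8e633,
  nat_lit 0x8a637, nat_lit 0x36633, nat_lit 0x8a63b,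
  nat_lit 0x8e63b, nat_lit 0x8a63f, nat_lit 0x42603,
  nat_lit 0x8a643, nat_lit 0x8e643, nat_lit 0x8a647,
  nat_lit 0x36643, nat_lit 0x8a64b, nat_lit 0x8e64b,
  nat_lit 0x8a64f, nat_lit 0x3a643, nat_lit 0x8a653,
  nat_lit 0x8e653, nat_lit 0x8a657, nat_lit 0x36653,
  nat_lit 0x8a65b, nat_lit 0x8e65b, nat_lit 0x8a65f,
  nat_lit 0x3e643, nat_lit 0x8a663, nat_lit 0x8e663,
  nat_lit 0x8a667, nat_lit 0x36663, nat_lit 0x8a66b,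
  nat_lit 0x8e66b, nat_lit 0x8a66f, nat_lit 0x3a663,
  nat_lit 0x8a673, nat_lit 0x8e673, nat_lit 0x8a677,
  nat_lit 0x36673, nat_lit 0x8a67b, nat_lit 0x8e67b,
  nat_lit 0x8a67f, nat_lit 0x46603, nat_lit 0x8a683,
  nat_lit 0x8e683, nat_lit 0x8a687, nat_lit 0x36683,
  nat_lit 0x8a68b, nat_lit 0x8e68b, nat_lit 0x8a68f,
  nat_lit 0x3a683, nat_lit 0x8a693, nat_lit 0x8e693,
  nat_lit 0x8a697, nat_lit 0x36693, nat_lit 0x8a69b,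
  nat_lit 0x8e69b, nat_lit 0x8a69f, nat_lit 0x3e683,
  nat_lit 0x8a6a3, nat_lit 0x8e6a3, nat_lit 0x8a6a7,
  nat_lit 0x366a3, nat_lit 0x8a6ab, nat_lit 0x8e6ab,
  nat_lit 0x8a6af, nat_lit 0x3a6a3, nat_lit 0x8a6b3,
  nat_lit 0x8e6b3, nat_lit 0x8a6b7, nat_lit 0x366b3,
  nat_lit 0x8a6bb, nat_lit 0x8e6bb, nat_lit 0x8a6bf,
  nat_lit 0x42683, nat_lit 0x8a6c3, nat_lit 0x8e6c3,
  nat_lit 0x8a6c7, nat_lit 0x366c3, nat_lit 0x8a6cb,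
  nat_lit 0x8e6cb, nat_lit 0x8a6cf, nat_lit 0x3a6c3,
  nat_lit 0x8a6d3, nat_lit 0x8e6d3, nat_lit 0x8a6d7,
  nat_lit 0x366d3, nat_lit 0x8a6db, nat_lit 0x8e6db,
  nat_lit 0x8a6df, nat_lit 0x3e6c3, nat_lit 0x8a6e3,
  nat_lit 0x8e6e3, nat_lit 0x8a6e7, nat_lit 0x366e3,
  nat_lit 0x8a6eb, nat_lit 0x8e6eb, nat_lit 0x8a6ef,
  nat_lit 0x3a6e3, nat_lit 0x8a6f3, nat_lit 0x8e6f3,
  nat_lit 0x8a6f7, nat_lit 0x366f3, nat_lit 0x8a6fb,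
  nat_lit 0x8e6fb, nat_lit 0x8a6ff, nat_lit 0x4c029,
  nat_lit 0x8a703, nat_lit 0x8e703, nat_lit 0x8a707,
  nat_lit 0x36703, nat_lit 0x8a70b, nat_lit 0x8e70b,
  nat_lit 0x8a70f]

theorem ckA4 : chkL ruleA AL0 (nat_lit 5001) ceA4 (nat_lit 4001) = true := by decide +kernel

def ceA5 : List ℕ :=
 [nat_lit 0x3a703, nat_lit 0x8a713, nat_lit 0x8e713,
  nat_lit 0x8a717, nat_lit 0x36713, nat_lit 0x8a71b,
  nat_lit 0x8e71b, nat_lit 0x8a71f, nat_lit 0x3e703,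
  nat_lit 0x8a723, nat_lit 0x8e723, nat_lit 0x8a727,
  nat_lit 0x36723, nat_lit 0x8a72b, nat_lit 0x8e72b,
  nat_lit 0x8a72f, nat_lit 0x3a723, nat_lit 0x8a733,
  nat_lit 0x8e733, nat_lit 0x8a737, nat_lit 0x36733,
  nat_lit 0x8a73b, nat_lit 0x8e73b, nat_lit 0x8a73f,
  nat_lit 0x42703, nat_lit 0x8a743, nat_lit 0x8e743,
  nat_lit 0x8a747, nat_lit 0x36743, nat_lit 0x8a74b,
  nat_lit 0x8e74b, nat_lit 0x8a74f, nat_lit 0x3a743,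
  nat_lit 0x8a753, nat_lit 0x8e753, nat_lit 0x8a757,
  nat_lit 0x36753, nat_lit 0x8a75b, nat_lit 0x8e75b,
  nat_lit 0x8a75f, nat_lit 0x3e743, nat_lit 0x8a763,
  nat_lit 0x8e763, nat_lit 0x8a767, nat_lit 0x36763,
  nat_lit 0x8a76b, nat_lit 0x8e76b, nat_lit 0x8a76f,
  nat_lit 0x3a763, nat_lit 0x8a773, nat_lit 0x8e773,
  nat_lit 0x8a777, nat_lit 0x36773, nat_lit 0x8a77b,
  nat_lit 0x8e77b, nat_lit 0x8a77f, nat_lit 0x46703,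
  nat_lit 0x8a783, nat_lit 0x8e783, nat_lit 0x8a787,
  nat_lit 0x36783, nat_lit 0x8a78b, nat_lit 0x8e78b,
  nat_lit 0x8a78f, nat_lit 0x3a783, nat_lit 0x8a793,
  nat_lit 0x8e793, nat_lit 0x8a797, nat_lit 0x36793,
  nat_lit 0x8a79b, nat_lit 0x8e79b, nat_lit 0x8a79f,
  nat_lit 0x3e783, nat_lit 0x8a7a3, nat_lit 0x8e7a3,
  nat_lit 0x8a7a7, nat_lit 0x367a3, nat_lit 0x8a7ab,
  nat_lit 0x8e7ab, nat_lit 0x8a7af, nat_lit 0x3a7a3,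
  nat_lit 0x8a7b3, nat_lit 0x8e7b3, nat_lit 0x8a7b7,
  nat_lit 0x367b3, nat_lit 0x8a7bb, nat_lit 0x8e7bb,
  nat_lit 0x8a7bf, nat_lit 0x42783, nat_lit 0x8a7c3,
  nat_lit 0x8e7c3, nat_lit 0x8a7c7, nat_lit 0x367c3,
  nat_lit 0x8a7cb, nat_lit 0x8e7cb, nat_lit 0x8a7cf,
  nat_lit 0x3a7c3, nat_lit 0x8a7d3, nat_lit 0x8e7d3,
  nat_lit 0x8a7d7, nat_lit 0x367d3, nat_lit 0x8a7db,
  nat_lit 0x8e7db, nat_lit 0x8a7df, nat_lit 0x3e7c3,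
  nat_lit 0x8a7e3, nat_lit 0x8e7e3, nat_lit 0x8a7e7,
  nat_lit 0x367e3, nat_lit 0x8a7eb, nat_lit 0x8e7eb,
  nat_lit 0x8a7ef, nat_lit 0x3a7e3, nat_lit 0x8a7f3,
  nat_lit 0x8e7f3, nat_lit 0x8a7f7, nat_lit 0x367f3,
  nat_lit 0x8a7fb, nat_lit 0x8e7fb, nat_lit 0x8a7ff,
  nat_lit 0x4a703, nat_lit 0x8a803, nat_lit 0x8e803,
  nat_lit 0x8a807, nat_lit 0x36803, nat_lit 0x8a80b,
  nat_lit 0x8e80b, nat_lit 0x8a80f, nat_lit 0x3a803,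
  nat_lit 0x8a813, nat_lit 0x8e813, nat_lit 0x8a817,
  nat_lit 0x36813, nat_lit 0x8a81b, nat_lit 0x8e81b,
  nat_lit 0x8a81f, nat_lit 0x3e803, nat_lit 0x8a823,
  nat_lit 0x8e823, nat_lit 0x8a827, nat_lit 0x36823,
  nat_lit 0x8a82b, nat_lit 0x8e82b, nat_lit 0x8a82f,
  nat_lit 0x3a823, nat_lit 0x8a833, nat_lit 0x8e833,
  nat_lit 0x8a837, nat_lit 0x36833, nat_lit 0x8a83b,
  nat_lit 0x8e83b, nat_lit 0x8a83f, nat_lit 0x42803,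
  nat_lit 0x8a843, nat_lit 0x8e843, nat_lit 0x8a847,
  nat_lit 0x36843, nat_lit 0x8a84b, nat_lit 0x8e84b,
  nat_lit 0x8a84f, nat_lit 0x3a843, nat_lit 0x8a853,
  nat_lit 0x8e853, nat_lit 0x8a857, nat_lit 0x36853,
  nat_lit 0x8a85b, nat_lit 0x8e85b, nat_lit 0x8a85f,
  nat_lit 0x3e843, nat_lit 0x8a863, nat_lit 0x8e863,
  nat_lit 0x8a867, nat_lit 0x36863, nat_lit 0x8a86b,
  nat_lit 0x8e86b, nat_lit 0x8a86f, nat_lit 0x3a863,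
  nat_lit 0x8a873, nat_lit 0x8e873, nat_lit 0x8a877,
  nat_lit 0x36873, nat_lit 0x8a87b, nat_lit 0x8e87b,
  nat_lit 0x8a87f, nat_lit 0x46803, nat_lit 0x8a883,
  nat_lit 0x8e883, nat_lit 0x8a887, nat_lit 0x36883,
  nat_lit 0x8a88b, nat_lit 0x8e88b, nat_lit 0x8a88f,
  nat_lit 0x3a883, nat_lit 0x8a893, nat_lit 0x8e893,
  nat_lit 0x8a897, nat_lit 0x36893, nat_lit 0x8a89b,
  nat_lit 0x8e89b, nat_lit 0x8a89f, nat_lit 0x3e883,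
  nat_lit 0x8a8a3, nat_lit 0x8e8a3, nat_lit 0x8a8a7,
  nat_lit 0x368a3, nat_lit 0x8a8ab, nat_lit 0x8e8ab,
  nat_lit 0x8a8af, nat_lit 0x3a8a3, nat_lit 0x8a8b3,
  nat_lit 0x8e8b3, nat_lit 0x8a8b7, nat_lit 0x368b3,
  nat_lit 0x8a8bb, nat_lit 0x8e8bb, nat_lit 0x8a8bf,
  nat_lit 0x42883, nat_lit 0x8a8c3, nat_lit 0x8e8c3,
  nat_lit 0x8a8c7, nat_lit 0x368c3, nat_lit 0x8a8cb,
  nat_lit 0x8e8cb, nat_lit 0x8a8cf, nat_lit 0x3a8c3,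
  nat_lit 0x8a8d3, nat_lit 0x8e8d3, nat_lit 0x8a8d7,
  nat_lit 0x368d3, nat_lit 0x8a8db, nat_lit 0x8e8db,
  nat_lit 0x8a8df, nat_lit 0x3e8c3, nat_lit 0x8a8e3,
  nat_lit 0x8e8e3, nat_lit 0x8a8e7, nat_lit 0x368e3,
  nat_lit 0x8a8eb, nat_lit 0x8e8eb, nat_lit 0x8a8ef,
  nat_lit 0x3a8e3, nat_lit 0x8a8f3, nat_lit 0x8e8f3,
  nat_lit 0x8a8f7, nat_lit 0x368f3, nat_lit 0x8a8fb,
  nat_lit 0x8e8fb, nat_lit 0x8a8ff, nat_lit 0x6004b,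
  nat_lit 0x60033, nat_lit 0x94033, nat_lit 0x62907,
  nat_lit 0x60035, nat_lit 0x94035, nat_lit 0x6290d,
  nat_lit 0x64035, nat_lit 0x62911, nat_lit 0x96911,
  nat_lit 0x62915, nat_lit 0x60037, nat_lit 0x94037,
  nat_lit 0x6291b, nat_lit 0x64037, nat_lit 0x6291f,
  nat_lit 0x9691f, nat_lit 0x62923, nat_lit 0x68037,
  nat_lit 0x62927, nat_lit 0x96927, nat_lit 0x6292b,
  nat_lit 0x66927, nat_lit 0x6292f, nat_lit 0x9692f,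
  nat_lit 0x62933, nat_lit 0x60039, nat_lit 0x94039,
  nat_lit 0x62939, nat_lit 0x64039, nat_lit 0x6293d,
  nat_lit 0x9693d, nat_lit 0x62941, nat_lit 0x68039,
  nat_lit 0x62945, nat_lit 0x96945, nat_lit 0x62949,
  nat_lit 0x66945, nat_lit 0x6294d, nat_lit 0x9694d,
  nat_lit 0x62951, nat_lit 0x6c039, nat_lit 0x62955,
  nat_lit 0x96955, nat_lit 0x62959, nat_lit 0x66955,
  nat_lit 0x6295d, nat_lit 0x9695d, nat_lit 0x62961,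
  nat_lit 0x6a955, nat_lit 0x62965, nat_lit 0x96965,
  nat_lit 0x62969, nat_lit 0x66965, nat_lit 0x6296d,
  nat_lit 0x9696d, nat_lit 0x62971, nat_lit 0x6003b,
  nat_lit 0x9403b, nat_lit 0x62977, nat_lit 0x6403b,
  nat_lit 0x6297b, nat_lit 0x9697b, nat_lit 0x6297f,
  nat_lit 0x6803b, nat_lit 0x62983, nat_lit 0x96983,
  nat_lit 0x62987, nat_lit 0x66983, nat_lit 0x6298b,
  nat_lit 0x9698b, nat_lit 0x6298f, nat_lit 0x6c03b,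
  nat_lit 0x62993, nat_lit 0x96993, nat_lit 0x62997,
  nat_lit 0x66993, nat_lit 0x6299b, nat_lit 0x9699b,
  nat_lit 0x6299f, nat_lit 0x6a993, nat_lit 0x629a3,
  nat_lit 0x969a3, nat_lit 0x629a7, nat_lit 0x669a3,
  nat_lit 0x629ab, nat_lit 0x969ab, nat_lit 0x629af,
  nat_lit 0x7003b, nat_lit 0x629b3, nat_lit 0x969b3,
  nat_lit 0x629b7, nat_lit 0x669b3, nat_lit 0x629bb,
  nat_lit 0x969bb, nat_lit 0x629bf, nat_lit 0x6a9b3,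
  nat_lit 0x629c3, nat_lit 0x969c3, nat_lit 0x629c7,
  nat_lit 0x669c3, nat_lit 0x629cb, nat_lit 0x969cb,
  nat_lit 0x629cf, nat_lit 0x6e9b3, nat_lit 0x629d3,
  nat_lit 0x969d3, nat_lit 0x629d7, nat_lit 0x669d3,
  nat_lit 0x629db, nat_lit 0x969db, nat_lit 0x629df,
  nat_lit 0x6a9d3, nat_lit 0x629e3, nat_lit 0x969e3,
  nat_lit 0x629e7, nat_lit 0x669e3, nat_lit 0x629eb,
  nat_lit 0x969eb, nat_lit 0x629ef, nat_lit 0x6003d,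
  nat_lit 0x9403d, nat_lit 0x629f5, nat_lit 0x6403d,
  nat_lit 0x629f9, nat_lit 0x969f9, nat_lit 0x629fd,
  nat_lit 0x6803d, nat_lit 0x62a01, nat_lit 0x96a01,
  nat_lit 0x62a05, nat_lit 0x66a01, nat_lit 0x62a09,
  nat_lit 0x96a09, nat_lit 0x62a0d, nat_lit 0x6c03d,
  nat_lit 0x62a11, nat_lit 0x96a11, nat_lit 0x62a15,
  nat_lit 0x66a11, nat_lit 0x62a19, nat_lit 0x96a19,
  nat_lit 0x62a1d, nat_lit 0x6aa11, nat_lit 0x62a21,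
  nat_lit 0x96a21, nat_lit 0x62a25, nat_lit 0x66a21,
  nat_lit 0x62a29, nat_lit 0x96a29, nat_lit 0x62a2d,
  nat_lit 0x7003d, nat_lit 0x62a31, nat_lit 0x96a31,
  nat_lit 0x62a35, nat_lit 0x66a31, nat_lit 0x62a39,
  nat_lit 0x96a39, nat_lit 0x62a3d, nat_lit 0x6aa31,
  nat_lit 0x62a41, nat_lit 0x96a41, nat_lit 0x62a45,
  nat_lit 0x66a41, nat_lit 0x62a49, nat_lit 0x96a49,
  nat_lit 0x62a4d, nat_lit 0x6ea31, nat_lit 0x62a51,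
  nat_lit 0x96a51, nat_lit 0x62a55, nat_lit 0x66a51,
  nat_lit 0x62a59, nat_lit 0x96a59, nat_lit 0x62a5d,
  nat_lit 0x6aa51, nat_lit 0x62a61, nat_lit 0x96a61,
  nat_lit 0x62a65, nat_lit 0x66a61, nat_lit 0x62a69,
  nat_lit 0x96a69, nat_lit 0x62a6d, nat_lit 0x7403d,
  nat_lit 0x62a71, nat_lit 0x96a71, nat_lit 0x62a75,
  nat_lit 0x66a71, nat_lit 0x62a79, nat_lit 0x96a79,
  nat_lit 0x62a7d, nat_lit 0x6aa71, nat_lit 0x62a81,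
  nat_lit 0x96a81, nat_lit 0x62a85, nat_lit 0x66a81,
  nat_lit 0x62a89, nat_lit 0x96a89, nat_lit 0x62a8d,
  nat_lit 0x6ea71, nat_lit 0x62a91, nat_lit 0x96a91,
  nat_lit 0x62a95, nat_lit 0x66a91, nat_lit 0x62a99,
  nat_lit 0x96a99, nat_lit 0x62a9d, nat_lit 0x6aa91,
  nat_lit 0x62aa1, nat_lit 0x96aa1, nat_lit 0x62aa5,
  nat_lit 0x66aa1, nat_lit 0x62aa9, nat_lit 0x96aa9,
  nat_lit 0x62aad, nat_lit 0x72a71, nat_lit 0x62ab1,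
  nat_lit 0x96ab1, nat_lit 0x62ab5, nat_lit 0x66ab1,
  nat_lit 0x62ab9, nat_lit 0x96ab9, nat_lit 0x62abd,
  nat_lit 0x6aab1, nat_lit 0x62ac1, nat_lit 0x96ac1,
  nat_lit 0x62ac5, nat_lit 0x66ac1, nat_lit 0x62ac9,
  nat_lit 0x96ac9, nat_lit 0x62acd, nat_lit 0x6eab1,
  nat_lit 0x62ad1, nat_lit 0x96ad1, nat_lit 0x62ad5,
  nat_lit 0x66ad1, nat_lit 0x62ad9, nat_lit 0x96ad9,
  nat_lit 0x62add, nat_lit 0x6aad1, nat_lit 0x62ae1,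
  nat_lit 0x96ae1, nat_lit 0x62ae5, nat_lit 0x66ae1,
  nat_lit 0x62ae9, nat_lit 0x96ae9, nat_lit 0x62aed,
  nat_lit 0x6003f, nat_lit 0x9403f, nat_lit 0x62af3,
  nat_lit 0x6403f, nat_lit 0x62af7, nat_lit 0x96af7,
  nat_lit 0x62afb, nat_lit 0x6803f, nat_lit 0x62aff,
  nat_lit 0x96aff, nat_lit 0x62b03, nat_lit 0x66aff,
  nat_lit 0x62b07, nat_lit 0x96b07, nat_lit 0x62b0b,
  nat_lit 0x6c03f, nat_lit 0x62b0f, nat_lit 0x96b0f,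
  nat_lit 0x62b13, nat_lit 0x66b0f, nat_lit 0x62b17,
  nat_lit 0x96b17, nat_lit 0x62b1b, nat_lit 0x6ab0f,
  nat_lit 0x62b1f, nat_lit 0x96b1f, nat_lit 0x62b23,
  nat_lit 0x66b1f, nat_lit 0x62b27, nat_lit 0x96b27,
  nat_lit 0x62b2b, nat_lit 0x7003f, nat_lit 0x62b2f,
  nat_lit 0x96b2f, nat_lit 0x62b33, nat_lit 0x66b2f,
  nat_lit 0x62b37, nat_lit 0x96b37, nat_lit 0x62b3b,
  nat_lit 0x6ab2f, nat_lit 0x62b3f, nat_lit 0x96b3f,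
  nat_lit 0x62b43, nat_lit 0x66b3f, nat_lit 0x62b47,
  nat_lit 0x96b47, nat_lit 0x62b4b, nat_lit 0x6eb2f,
  nat_lit 0x62b4f, nat_lit 0x96b4f, nat_lit 0x62b53,
  nat_lit 0x66b4f, nat_lit 0x62b57, nat_lit 0x96b57,
  nat_lit 0x62b5b, nat_lit 0x6ab4f, nat_lit 0x62b5f,
  nat_lit 0x96b5f, nat_lit 0x62b63, nat_lit 0x66b5f,
  nat_lit 0x62b67, nat_lit 0x96b67, nat_lit 0x62b6b,
  nat_lit 0x7403f, nat_lit 0x62b6f, nat_lit 0x96b6f,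
  nat_lit 0x62b73, nat_lit 0x66b6f, nat_lit 0x62b77,
  nat_lit 0x96b77, nat_lit 0x62b7b, nat_lit 0x6ab6f,
  nat_lit 0x62b7f, nat_lit 0x96b7f, nat_lit 0x62b83,
  nat_lit 0x66b7f, nat_lit 0x62b87, nat_lit 0x96b87,
  nat_lit 0x62b8b, nat_lit 0x6eb6f, nat_lit 0x62b8f,
  nat_lit 0x96b8f, nat_lit 0x62b93, nat_lit 0x66b8f,
  nat_lit 0x62b97, nat_lit 0x96b97, nat_lit 0x62b9b,
  nat_lit 0x6ab8f, nat_lit 0x62b9f, nat_lit 0x96b9f,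
  nat_lit 0x62ba3, nat_lit 0x66b9f, nat_lit 0x62ba7,
  nat_lit 0x96ba7, nat_lit 0x62bab, nat_lit 0x72b6f,
  nat_lit 0x62baf, nat_lit 0x96baf, nat_lit 0x62bb3,
  nat_lit 0x66baf, nat_lit 0x62bb7, nat_lit 0x96bb7,
  nat_lit 0x62bbb, nat_lit 0x6abaf, nat_lit 0x62bbf,
  nat_lit 0x96bbf, nat_lit 0x62bc3, nat_lit 0x66bbf,
  nat_lit 0x62bc7, nat_lit 0x96bc7, nat_lit 0x62bcb,
  nat_lit 0x6ebaf, nat_lit 0x62bcf, nat_lit 0x96bcf,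
  nat_lit 0x62bd3, nat_lit 0x66bcf, nat_lit 0x62bd7,
  nat_lit 0x96bd7, nat_lit 0x62bdb, nat_lit 0x6abcf,
  nat_lit 0x62bdf, nat_lit 0x96bdf, nat_lit 0x62be3,
  nat_lit 0x66bdf, nat_lit 0x62be7, nat_lit 0x96be7,
  nat_lit 0x62beb, nat_lit 0x7803f, nat_lit 0x62bef,
  nat_lit 0x96bef, nat_lit 0x62bf3, nat_lit 0x66bef,
  nat_lit 0x62bf7, nat_lit 0x96bf7, nat_lit 0x62bfb,
  nat_lit 0x6abef, nat_lit 0x62bff, nat_lit 0x96bff,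
  nat_lit 0x62c03, nat_lit 0x66bff, nat_lit 0x62c07,
  nat_lit 0x96c07, nat_lit 0x62c0b, nat_lit 0x6ebef,
  nat_lit 0x62c0f, nat_lit 0x96c0f, nat_lit 0x62c13,
  nat_lit 0x66c0f, nat_lit 0x62c17, nat_lit 0x96c17,
  nat_lit 0x62c1b, nat_lit 0x6ac0f, nat_lit 0x62c1f,
  nat_lit 0x96c1f, nat_lit 0x62c23, nat_lit 0x66c1f,
  nat_lit 0x62c27, nat_lit 0x96c27, nat_lit 0x62c2b,
  nat_lit 0x72bef, nat_lit 0x62c2f, nat_lit 0x96c2f,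
  nat_lit 0x62c33, nat_lit 0x66c2f, nat_lit 0x62c37,
  nat_lit 0x96c37, nat_lit 0x62c3b, nat_lit 0x6ac2f,
  nat_lit 0x62c3f, nat_lit 0x96c3f, nat_lit 0x62c43,
  nat_lit 0x66c3f, nat_lit 0x62c47, nat_lit 0x96c47,
  nat_lit 0x62c4b, nat_lit 0x6ec2f, nat_lit 0x62c4f,
  nat_lit 0x96c4f, nat_lit 0x62c53, nat_lit 0x66c4f,
  nat_lit 0x62c57, nat_lit 0x96c57, nat_lit 0x62c5b,
  nat_lit 0x6ac4f, nat_lit 0x62c5f, nat_lit 0x96c5f,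
  nat_lit 0x62c63, nat_lit 0x66c5f, nat_lit 0x62c67,
  nat_lit 0x96c67, nat_lit 0x62c6b, nat_lit 0x76bef,
  nat_lit 0x62c6f, nat_lit 0x96c6f, nat_lit 0x62c73,
  nat_lit 0x66c6f, nat_lit 0x62c77, nat_lit 0x96c77,
  nat_lit 0x62c7b, nat_lit 0x6ac6f, nat_lit 0x62c7f,
  nat_lit 0x96c7f, nat_lit 0x62c83, nat_lit 0x66c7f,
  nat_lit 0x62c87, nat_lit 0x96c87, nat_lit 0x62c8b,
  nat_lit 0x6ec6f, nat_lit 0x62c8f, nat_lit 0x96c8f,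
  nat_lit 0x62c93, nat_lit 0x66c8f, nat_lit 0x62c97,
  nat_lit 0x96c97, nat_lit 0x62c9b, nat_lit 0x6ac8f,
  nat_lit 0x62c9f, nat_lit 0x96c9f, nat_lit 0x62ca3,
  nat_lit 0x66c9f, nat_lit 0x62ca7, nat_lit 0x96ca7,
  nat_lit 0x62cab, nat_lit 0x72c6f, nat_lit 0x62caf,
  nat_lit 0x96caf, nat_lit 0x62cb3, nat_lit 0x66caf,
  nat_lit 0x62cb7, nat_lit 0x96cb7, nat_lit 0x62cbb,
  nat_lit 0x6acaf, nat_lit 0x62cbf, nat_lit 0x96cbf,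
  nat_lit 0x62cc3, nat_lit 0x66cbf, nat_lit 0x62cc7,
  nat_lit 0x96cc7, nat_lit 0x62ccb, nat_lit 0x6ecaf,
  nat_lit 0x62ccf, nat_lit 0x96ccf, nat_lit 0x62cd3,
  nat_lit 0x66ccf, nat_lit 0x62cd7, nat_lit 0x96cd7,
  nat_lit 0x62cdb, nat_lit 0x6accf, nat_lit 0x62cdf,
  nat_lit 0x96cdf, nat_lit 0x62ce3, nat_lit 0x66cdf,
  nat_lit 0x62ce7, nat_lit 0x96ce7, nat_lit 0x62ceb,
  nat_lit 0x60041, nat_lit 0x94041, nat_lit 0x62cf1,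
  nat_lit 0x64041, nat_lit 0x62cf5, nat_lit 0x96cf5,
  nat_lit 0x62cf9, nat_lit 0x68041, nat_lit 0x62cfd,
  nat_lit 0x96cfd, nat_lit 0x62d01, nat_lit 0x66cfd,
  nat_lit 0x62d05, nat_lit 0x96d05, nat_lit 0x62d09,
  nat_lit 0x6c041, nat_lit 0x62d0d, nat_lit 0x96d0d,
  nat_lit 0x62d11, nat_lit 0x66d0d, nat_lit 0x62d15,
  nat_lit 0x96d15, nat_lit 0x62d19, nat_lit 0x6ad0d,
  nat_lit 0x62d1d, nat_lit 0x96d1d, nat_lit 0x62d21,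
  nat_lit 0x66d1d, nat_lit 0x62d25, nat_lit 0x96d25,
  nat_lit 0x62d29, nat_lit 0x70041, nat_lit 0x62d2d,
  nat_lit 0x96d2d, nat_lit 0x62d31, nat_lit 0x66d2d,
  nat_lit 0x62d35, nat_lit 0x96d35, nat_lit 0x62d39,
  nat_lit 0x6ad2d, nat_lit 0x62d3d, nat_lit 0x96d3d,
  nat_lit 0x62d41, nat_lit 0x66d3d, nat_lit 0x62d45,
  nat_lit 0x96d45, nat_lit 0x62d49, nat_lit 0x6ed2d,
  nat_lit 0x62d4d, nat_lit 0x96d4d, nat_lit 0x62d51,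
  nat_lit 0x66d4d, nat_lit 0x62d55, nat_lit 0x96d55,
  nat_lit 0x62d59, nat_lit 0x6ad4d, nat_lit 0x62d5d,
  nat_lit 0x96d5d, nat_lit 0x62d61, nat_lit 0x66d5d,
  nat_lit 0x62d65, nat_lit 0x96d65, nat_lit 0x62d69,
  nat_lit 0x74041, nat_lit 0x62d6d, nat_lit 0x96d6d,
  nat_lit 0x62d71, nat_lit 0x66d6d, nat_lit 0x62d75,
  nat_lit 0x96d75, nat_lit 0x62d79, nat_lit 0x6ad6d,
  nat_lit 0x62d7d, nat_lit 0x96d7d, nat_lit 0x62d81,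
  nat_lit 0x66d7d, nat_lit 0x62d85, nat_lit 0x96d85,
  nat_lit 0x62d89, nat_lit 0x6ed6d, nat_lit 0x62d8d,
  nat_lit 0x96d8d, nat_lit 0x62d91, nat_lit 0x66d8d,
  nat_lit 0x62d95, nat_lit 0x96d95, nat_lit 0x62d99,
  nat_lit 0x6ad8d, nat_lit 0x62d9d, nat_lit 0x96d9d,
  nat_lit 0x62da1, nat_lit 0x66d9d, nat_lit 0x62da5,
  nat_lit 0x96da5, nat_lit 0x62da9, nat_lit 0x72d6d,
  nat_lit 0x62dad, nat_lit 0x96dad, nat_lit 0x62db1,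
  nat_lit 0x66dad, nat_lit 0x62db5, nat_lit 0x96db5,
  nat_lit 0x62db9, nat_lit 0x6adad, nat_lit 0x62dbd,
  nat_lit 0x96dbd, nat_lit 0x62dc1, nat_lit 0x66dbd,
  nat_lit 0x62dc5, nat_lit 0x96dc5, nat_lit 0x62dc9,
  nat_lit 0x6edad, nat_lit 0x62dcd, nat_lit 0x96dcd,
  nat_lit 0x62dd1, nat_lit 0x66dcd, nat_lit 0x62dd5,
  nat_lit 0x96dd5, nat_lit 0x62dd9, nat_lit 0x6adcd,
  nat_lit 0x62ddd, nat_lit 0x96ddd, nat_lit 0x62de1,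
  nat_lit 0x66ddd, nat_lit 0x62de5, nat_lit 0x96de5,
  nat_lit 0x62de9, nat_lit 0x78041, nat_lit 0x62ded,
  nat_lit 0x96ded, nat_lit 0x62df1, nat_lit 0x66ded,
  nat_lit 0x62df5, nat_lit 0x96df5, nat_lit 0x62df9,
  nat_lit 0x6aded, nat_lit 0x62dfd, nat_lit 0x96dfd,
  nat_lit 0x62e01, nat_lit 0x66dfd, nat_lit 0x62e05,
  nat_lit 0x96e05, nat_lit 0x62e09, nat_lit 0x6eded,
  nat_lit 0x62e0d, nat_lit 0x96e0d, nat_lit 0x62e11,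
  nat_lit 0x66e0d, nat_lit 0x62e15, nat_lit 0x96e15,
  nat_lit 0x62e19, nat_lit 0x6ae0d, nat_lit 0x62e1d,
  nat_lit 0x96e1d, nat_lit 0x62e21, nat_lit 0x66e1d,
  nat_lit 0x62e25, nat_lit 0x96e25, nat_lit 0x62e29,
  nat_lit 0x72ded, nat_lit 0x62e2d, nat_lit 0x96e2d,
  nat_lit 0x62e31, nat_lit 0x66e2d, nat_lit 0x62e35,
  nat_lit 0x96e35, nat_lit 0x62e39, nat_lit 0x6ae2d,
  nat_lit 0x62e3d, nat_lit 0x96e3d, nat_lit 0x62e41,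
  nat_lit 0x66e3d, nat_lit 0x62e45, nat_lit 0x96e45,
  nat_lit 0x62e49, nat_lit 0x6ee2d, nat_lit 0x62e4d,
  nat_lit 0x96e4d, nat_lit 0x62e51, nat_lit 0x66e4d,
  nat_lit 0x62e55, nat_lit 0x96e55, nat_lit 0x62e59,
  nat_lit 0x6ae4d, nat_lit 0x62e5d, nat_lit 0x96e5d,
  nat_lit 0x62e61, nat_lit 0x66e5d, nat_lit 0x62e65,
  nat_lit 0x96e65, nat_lit 0x62e69, nat_lit 0x76ded,
  nat_lit 0x62e6d, nat_lit 0x96e6d, nat_lit 0x62e71,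
  nat_lit 0x66e6d, nat_lit 0x62e75, nat_lit 0x96e75,
  nat_lit 0x62e79, nat_lit 0x6ae6d, nat_lit 0x62e7d,
  nat_lit 0x96e7d, nat_lit 0x62e81, nat_lit 0x66e7d,
  nat_lit 0x62e85, nat_lit 0x96e85, nat_lit 0x62e89,
  nat_lit 0x6ee6d, nat_lit 0x62e8d, nat_lit 0x96e8d,
  nat_lit 0x62e91, nat_lit 0x66e8d, nat_lit 0x62e95,
  nat_lit 0x96e95, nat_lit 0x62e99, nat_lit 0x6ae8d,
  nat_lit 0x62e9d, nat_lit 0x96e9d, nat_lit 0x62ea1,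
  nat_lit 0x66e9d, nat_lit 0x62ea5, nat_lit 0x96ea5,
  nat_lit 0x62ea9, nat_lit 0x72e6d, nat_lit 0x62ead,
  nat_lit 0x96ead, nat_lit 0x62eb1, nat_lit 0x66ead,
  nat_lit 0x62eb5, nat_lit 0x96eb5, nat_lit 0x62eb9,
  nat_lit 0x6aead, nat_lit 0x62ebd, nat_lit 0x96ebd,
  nat_lit 0x62ec1, nat_lit 0x66ebd, nat_lit 0x62ec5,
  nat_lit 0x96ec5, nat_lit 0x62ec9, nat_lit 0x6eead,
  nat_lit 0x62ecd, nat_lit 0x96ecd, nat_lit 0x62ed1,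
  nat_lit 0x66ecd, nat_lit 0x62ed5, nat_lit 0x96ed5,
  nat_lit 0x62ed9, nat_lit 0x6aecd, nat_lit 0x62edd,
  nat_lit 0x96edd]

theorem ckA5 : chkL ruleA AL0 (nat_lit 6001) ceA5 (nat_lit 5001) = true := by decide +kernel

def ceA6 : List ℕ :=
 [nat_lit 0x62ee1, nat_lit 0x66edd, nat_lit 0x62ee5,
  nat_lit 0x96ee5, nat_lit 0x62ee9, nat_lit 0x7c041,
  nat_lit 0x62eed, nat_lit 0x96eed, nat_lit 0x62ef1,
  nat_lit 0x66eed, nat_lit 0x62ef5, nat_lit 0x96ef5,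
  nat_lit 0x62ef9, nat_lit 0x6aeed, nat_lit 0x62efd,
  nat_lit 0x96efd, nat_lit 0x62f01, nat_lit 0x66efd,
  nat_lit 0x62f05, nat_lit 0x96f05, nat_lit 0x62f09,
  nat_lit 0x6eeed, nat_lit 0x62f0d, nat_lit 0x96f0d,
  nat_lit 0x62f11, nat_lit 0x66f0d, nat_lit 0x62f15,
  nat_lit 0x96f15, nat_lit 0x62f19, nat_lit 0x6af0d,
  nat_lit 0x62f1d, nat_lit 0x96f1d, nat_lit 0x62f21,
  nat_lit 0x66f1d, nat_lit 0x62f25, nat_lit 0x96f25,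
  nat_lit 0x62f29, nat_lit 0x72eed, nat_lit 0x62f2d,
  nat_lit 0x96f2d, nat_lit 0x62f31, nat_lit 0x66f2d,
  nat_lit 0x62f35, nat_lit 0x96f35, nat_lit 0x62f39,
  nat_lit 0x6af2d, nat_lit 0x62f3d, nat_lit 0x96f3d,
  nat_lit 0x62f41, nat_lit 0x66f3d, nat_lit 0x62f45,
  nat_lit 0x96f45, nat_lit 0x62f49, nat_lit 0x6ef2d,
  nat_lit 0x62f4d, nat_lit 0x96f4d, nat_lit 0x62f51,
  nat_lit 0x66f4d, nat_lit 0x62f55, nat_lit 0x96f55,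
  nat_lit 0x62f59, nat_lit 0x6af4d, nat_lit 0x62f5d,
  nat_lit 0x96f5d, nat_lit 0x62f61, nat_lit 0x66f5d,
  nat_lit 0x62f65, nat_lit 0x96f65, nat_lit 0x62f69,
  nat_lit 0x76eed, nat_lit 0x62f6d, nat_lit 0x96f6d,
  nat_lit 0x62f71, nat_lit 0x66f6d, nat_lit 0x62f75,
  nat_lit 0x96f75, nat_lit 0x62f79, nat_lit 0x6af6d,
  nat_lit 0x62f7d, nat_lit 0x96f7d, nat_lit 0x62f81,
  nat_lit 0x66f7d, nat_lit 0x62f85, nat_lit 0x96f85,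
  nat_lit 0x62f89, nat_lit 0x6ef6d, nat_lit 0x62f8d,
  nat_lit 0x96f8d, nat_lit 0x62f91, nat_lit 0x66f8d,
  nat_lit 0x62f95, nat_lit 0x96f95, nat_lit 0x62f99,
  nat_lit 0x6af8d, nat_lit 0x62f9d, nat_lit 0x96f9d,
  nat_lit 0x62fa1, nat_lit 0x66f9d, nat_lit 0x62fa5,
  nat_lit 0x96fa5, nat_lit 0x62fa9, nat_lit 0x72f6d,
  nat_lit 0x62fad, nat_lit 0x96fad, nat_lit 0x62fb1,
  nat_lit 0x66fad, nat_lit 0x62fb5, nat_lit 0x96fb5,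
  nat_lit 0x62fb9, nat_lit 0x6afad, nat_lit 0x62fbd,
  nat_lit 0x96fbd, nat_lit 0x62fc1, nat_lit 0x66fbd,
  nat_lit 0x62fc5, nat_lit 0x96fc5, nat_lit 0x62fc9,
  nat_lit 0x6efad, nat_lit 0x62fcd, nat_lit 0x96fcd,
  nat_lit 0x62fd1, nat_lit 0x66fcd, nat_lit 0x62fd5,
  nat_lit 0x96fd5, nat_lit 0x62fd9, nat_lit 0x6afcd,
  nat_lit 0x62fdd, nat_lit 0x96fdd, nat_lit 0x62fe1,
  nat_lit 0x66fdd, nat_lit 0x62fe5, nat_lit 0x96fe5,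
  nat_lit 0x62fe9, nat_lit 0x7aeed, nat_lit 0x62fed,
  nat_lit 0x96fed, nat_lit 0x62ff1, nat_lit 0x66fed,
  nat_lit 0x62ff5, nat_lit 0x96ff5, nat_lit 0x62ff9,
  nat_lit 0x6afed, nat_lit 0x62ffd, nat_lit 0x96ffd,
  nat_lit 0x63001, nat_lit 0x66ffd, nat_lit 0x63005,
  nat_lit 0x97005, nat_lit 0x63009, nat_lit 0x6efed,
  nat_lit 0x6300d, nat_lit 0x9700d, nat_lit 0x63011,
  nat_lit 0x6700d, nat_lit 0x63015, nat_lit 0x97015,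
  nat_lit 0x63019, nat_lit 0x6b00d, nat_lit 0x6301d,
  nat_lit 0x9701d, nat_lit 0x63021, nat_lit 0x6701d,
  nat_lit 0x63025, nat_lit 0x97025, nat_lit 0x63029,
  nat_lit 0x72fed, nat_lit 0x6302d, nat_lit 0x9702d,
  nat_lit 0x63031, nat_lit 0x6702d, nat_lit 0x63035,
  nat_lit 0x97035, nat_lit 0x63039, nat_lit 0x6b02d,
  nat_lit 0x6303d, nat_lit 0x9703d, nat_lit 0x63041,
  nat_lit 0x6703d, nat_lit 0x63045, nat_lit 0x97045,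
  nat_lit 0x63049, nat_lit 0x6f02d, nat_lit 0x6304d,
  nat_lit 0x9704d, nat_lit 0x63051, nat_lit 0x6704d,
  nat_lit 0x63055, nat_lit 0x97055, nat_lit 0x63059,
  nat_lit 0x6b04d, nat_lit 0x6305d, nat_lit 0x9705d,
  nat_lit 0x63061, nat_lit 0x6705d, nat_lit 0x63065,
  nat_lit 0x97065, nat_lit 0x63069, nat_lit 0x76fed,
  nat_lit 0x6306d, nat_lit 0x9706d, nat_lit 0x63071,
  nat_lit 0x6706d, nat_lit 0x63075, nat_lit 0x97075,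
  nat_lit 0x63079, nat_lit 0x6b06d, nat_lit 0x6307d,
  nat_lit 0x9707d, nat_lit 0x63081, nat_lit 0x6707d,
  nat_lit 0x63085, nat_lit 0x97085, nat_lit 0x63089,
  nat_lit 0x6f06d, nat_lit 0x6308d, nat_lit 0x9708d,
  nat_lit 0x63091, nat_lit 0x6708d, nat_lit 0x63095,
  nat_lit 0x97095, nat_lit 0x63099, nat_lit 0x6b08d,
  nat_lit 0x6309d, nat_lit 0x9709d, nat_lit 0x630a1,
  nat_lit 0x6709d, nat_lit 0x630a5, nat_lit 0x970a5,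
  nat_lit 0x630a9, nat_lit 0x7306d, nat_lit 0x630ad,
  nat_lit 0x970ad, nat_lit 0x630b1, nat_lit 0x670ad,
  nat_lit 0x630b5, nat_lit 0x970b5, nat_lit 0x630b9,
  nat_lit 0x6b0ad, nat_lit 0x630bd, nat_lit 0x970bd,
  nat_lit 0x630c1, nat_lit 0x670bd, nat_lit 0x630c5,
  nat_lit 0x970c5, nat_lit 0x630c9, nat_lit 0x6f0ad,
  nat_lit 0x630cd, nat_lit 0x970cd, nat_lit 0x630d1,
  nat_lit 0x670cd, nat_lit 0x630d5, nat_lit 0x970d5,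
  nat_lit 0x630d9, nat_lit 0x6b0cd, nat_lit 0x630dd,
  nat_lit 0x970dd, nat_lit 0x630e1, nat_lit 0x670dd,
  nat_lit 0x630e5, nat_lit 0x970e5, nat_lit 0x630e9,
  nat_lit 0x60043, nat_lit 0x94043, nat_lit 0x630ef,
  nat_lit 0x64043, nat_lit 0x630f3, nat_lit 0x970f3,
  nat_lit 0x630f7, nat_lit 0x68043, nat_lit 0x630fb,
  nat_lit 0x970fb, nat_lit 0x630ff, nat_lit 0x670fb,
  nat_lit 0x63103, nat_lit 0x97103, nat_lit 0x63107,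
  nat_lit 0x6c043, nat_lit 0x6310b, nat_lit 0x9710b,
  nat_lit 0x6310f, nat_lit 0x6710b, nat_lit 0x63113,
  nat_lit 0x97113, nat_lit 0x63117, nat_lit 0x6b10b,
  nat_lit 0x6311b, nat_lit 0x9711b, nat_lit 0x6311f,
  nat_lit 0x6711b, nat_lit 0x63123, nat_lit 0x97123,
  nat_lit 0x63127, nat_lit 0x70043, nat_lit 0x6312b,
  nat_lit 0x9712b, nat_lit 0x6312f, nat_lit 0x6712b,
  nat_lit 0x63133, nat_lit 0x97133, nat_lit 0x63137,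
  nat_lit 0x6b12b, nat_lit 0x6313b, nat_lit 0x9713b,
  nat_lit 0x6313f, nat_lit 0x6713b, nat_lit 0x63143,
  nat_lit 0x97143, nat_lit 0x63147, nat_lit 0x6f12b,
  nat_lit 0x6314b, nat_lit 0x9714b, nat_lit 0x6314f,
  nat_lit 0x6714b, nat_lit 0x63153, nat_lit 0x97153,
  nat_lit 0x63157, nat_lit 0x6b14b, nat_lit 0x6315b,
  nat_lit 0x9715b, nat_lit 0x6315f, nat_lit 0x6715b,
  nat_lit 0x63163, nat_lit 0x97163, nat_lit 0x63167,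
  nat_lit 0x74043, nat_lit 0x6316b, nat_lit 0x9716b,
  nat_lit 0x6316f, nat_lit 0x6716b, nat_lit 0x63173,
  nat_lit 0x97173, nat_lit 0x63177, nat_lit 0x6b16b,
  nat_lit 0x6317b, nat_lit 0x9717b, nat_lit 0x6317f,
  nat_lit 0x6717b, nat_lit 0x63183, nat_lit 0x97183,
  nat_lit 0x63187, nat_lit 0x6f16b, nat_lit 0x6318b,
  nat_lit 0x9718b, nat_lit 0x6318f, nat_lit 0x6718b,
  nat_lit 0x63193, nat_lit 0x97193, nat_lit 0x63197,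
  nat_lit 0x6b18b, nat_lit 0x6319b, nat_lit 0x9719b,
  nat_lit 0x6319f, nat_lit 0x6719b, nat_lit 0x631a3,
  nat_lit 0x971a3, nat_lit 0x631a7, nat_lit 0x7316b,
  nat_lit 0x631ab, nat_lit 0x971ab, nat_lit 0x631af,
  nat_lit 0x671ab, nat_lit 0x631b3, nat_lit 0x971b3,
  nat_lit 0x631b7, nat_lit 0x6b1ab, nat_lit 0x631bb,
  nat_lit 0x971bb, nat_lit 0x631bf, nat_lit 0x671bb,
  nat_lit 0x631c3, nat_lit 0x971c3, nat_lit 0x631c7,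
  nat_lit 0x6f1ab, nat_lit 0x631cb, nat_lit 0x971cb,
  nat_lit 0x631cf, nat_lit 0x671cb, nat_lit 0x631d3,
  nat_lit 0x971d3, nat_lit 0x631d7, nat_lit 0x6b1cb,
  nat_lit 0x631db, nat_lit 0x971db, nat_lit 0x631df,
  nat_lit 0x671db, nat_lit 0x631e3, nat_lit 0x971e3,
  nat_lit 0x631e7, nat_lit 0x78043, nat_lit 0x631eb,
  nat_lit 0x971eb, nat_lit 0x631ef, nat_lit 0x671eb,
  nat_lit 0x631f3, nat_lit 0x971f3, nat_lit 0x631f7,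
  nat_lit 0x6b1eb, nat_lit 0x631fb, nat_lit 0x971fb,
  nat_lit 0x631ff, nat_lit 0x671fb, nat_lit 0x63203,
  nat_lit 0x97203, nat_lit 0x63207, nat_lit 0x6f1eb,
  nat_lit 0x6320b, nat_lit 0x9720b, nat_lit 0x6320f,
  nat_lit 0x6720b, nat_lit 0x63213, nat_lit 0x97213,
  nat_lit 0x63217, nat_lit 0x6b20b, nat_lit 0x6321b,
  nat_lit 0x9721b, nat_lit 0x6321f, nat_lit 0x6721b,
  nat_lit 0x63223, nat_lit 0x97223, nat_lit 0x63227,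
  nat_lit 0x731eb, nat_lit 0x6322b, nat_lit 0x9722b,
  nat_lit 0x6322f, nat_lit 0x6722b, nat_lit 0x63233,
  nat_lit 0x97233, nat_lit 0x63237, nat_lit 0x6b22b,
  nat_lit 0x6323b, nat_lit 0x9723b, nat_lit 0x6323f,
  nat_lit 0x6723b, nat_lit 0x63243, nat_lit 0x97243,
  nat_lit 0x63247, nat_lit 0x6f22b, nat_lit 0x6324b,
  nat_lit 0x9724b, nat_lit 0x6324f, nat_lit 0x6724b,
  nat_lit 0x63253, nat_lit 0x97253, nat_lit 0x63257,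
  nat_lit 0x6b24b, nat_lit 0x6325b, nat_lit 0x9725b,
  nat_lit 0x6325f, nat_lit 0x6725b, nat_lit 0x63263,
  nat_lit 0x97263, nat_lit 0x63267, nat_lit 0x771eb,
  nat_lit 0x6326b, nat_lit 0x9726b, nat_lit 0x6326f,
  nat_lit 0x6726b, nat_lit 0x63273, nat_lit 0x97273,
  nat_lit 0x63277, nat_lit 0x6b26b, nat_lit 0x6327b,
  nat_lit 0x9727b, nat_lit 0x6327f, nat_lit 0x6727b,
  nat_lit 0x63283, nat_lit 0x97283, nat_lit 0x63287,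
  nat_lit 0x6f26b, nat_lit 0x6328b, nat_lit 0x9728b,
  nat_lit 0x6328f, nat_lit 0x6728b, nat_lit 0x63293,
  nat_lit 0x97293, nat_lit 0x63297, nat_lit 0x6b28b,
  nat_lit 0x6329b, nat_lit 0x9729b, nat_lit 0x6329f,
  nat_lit 0x6729b, nat_lit 0x632a3, nat_lit 0x972a3,
  nat_lit 0x632a7, nat_lit 0x7326b, nat_lit 0x632ab,
  nat_lit 0x972ab, nat_lit 0x632af, nat_lit 0x672ab,
  nat_lit 0x632b3, nat_lit 0x972b3, nat_lit 0x632b7,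
  nat_lit 0x6b2ab, nat_lit 0x632bb, nat_lit 0x972bb,
  nat_lit 0x632bf, nat_lit 0x672bb, nat_lit 0x632c3,
  nat_lit 0x972c3, nat_lit 0x632c7, nat_lit 0x6f2ab,
  nat_lit 0x632cb, nat_lit 0x972cb, nat_lit 0x632cf,
  nat_lit 0x672cb, nat_lit 0x632d3, nat_lit 0x972d3,
  nat_lit 0x632d7, nat_lit 0x6b2cb, nat_lit 0x632db,
  nat_lit 0x972db, nat_lit 0x632df, nat_lit 0x672db,
  nat_lit 0x632e3, nat_lit 0x972e3, nat_lit 0x632e7,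
  nat_lit 0x7c043, nat_lit 0x632eb, nat_lit 0x972eb,
  nat_lit 0x632ef, nat_lit 0x672eb, nat_lit 0x632f3,
  nat_lit 0x972f3, nat_lit 0x632f7, nat_lit 0x6b2eb,
  nat_lit 0x632fb, nat_lit 0x972fb, nat_lit 0x632ff,
  nat_lit 0x672fb, nat_lit 0x63303, nat_lit 0x97303,
  nat_lit 0x63307, nat_lit 0x6f2eb, nat_lit 0x6330b,
  nat_lit 0x9730b, nat_lit 0x6330f, nat_lit 0x6730b,
  nat_lit 0x63313, nat_lit 0x97313, nat_lit 0x63317,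
  nat_lit 0x6b30b, nat_lit 0x6331b, nat_lit 0x9731b,
  nat_lit 0x6331f, nat_lit 0x6731b, nat_lit 0x63323,
  nat_lit 0x97323, nat_lit 0x63327, nat_lit 0x732eb,
  nat_lit 0x6332b, nat_lit 0x9732b, nat_lit 0x6332f,
  nat_lit 0x6732b, nat_lit 0x63333, nat_lit 0x97333,
  nat_lit 0x63337, nat_lit 0x6b32b, nat_lit 0x6333b,
  nat_lit 0x9733b, nat_lit 0x6333f, nat_lit 0x6733b,
  nat_lit 0x63343, nat_lit 0x97343, nat_lit 0x63347,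
  nat_lit 0x6f32b, nat_lit 0x6334b, nat_lit 0x9734b,
  nat_lit 0x6334f, nat_lit 0x6734b, nat_lit 0x63353,
  nat_lit 0x97353, nat_lit 0x63357, nat_lit 0x6b34b,
  nat_lit 0x6335b, nat_lit 0x9735b, nat_lit 0x6335f,
  nat_lit 0x6735b, nat_lit 0x63363, nat_lit 0x97363,
  nat_lit 0x63367, nat_lit 0x772eb, nat_lit 0x6336b,
  nat_lit 0x9736b, nat_lit 0x6336f, nat_lit 0x6736b,
  nat_lit 0x63373, nat_lit 0x97373, nat_lit 0x63377,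
  nat_lit 0x6b36b, nat_lit 0x6337b, nat_lit 0x9737b,
  nat_lit 0x6337f, nat_lit 0x6737b, nat_lit 0x63383,
  nat_lit 0x97383, nat_lit 0x63387, nat_lit 0x6f36b,
  nat_lit 0x6338b, nat_lit 0x9738b, nat_lit 0x6338f,
  nat_lit 0x6738b, nat_lit 0x63393, nat_lit 0x97393,
  nat_lit 0x63397, nat_lit 0x6b38b, nat_lit 0x6339b,
  nat_lit 0x9739b, nat_lit 0x6339f, nat_lit 0x6739b,
  nat_lit 0x633a3, nat_lit 0x973a3, nat_lit 0x633a7,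
  nat_lit 0x7336b, nat_lit 0x633ab, nat_lit 0x973ab,
  nat_lit 0x633af, nat_lit 0x673ab, nat_lit 0x633b3,
  nat_lit 0x973b3, nat_lit 0x633b7, nat_lit 0x6b3ab,
  nat_lit 0x633bb, nat_lit 0x973bb, nat_lit 0x633bf,
  nat_lit 0x673bb, nat_lit 0x633c3, nat_lit 0x973c3,
  nat_lit 0x633c7, nat_lit 0x6f3ab, nat_lit 0x633cb,
  nat_lit 0x973cb, nat_lit 0x633cf, nat_lit 0x673cb,
  nat_lit 0x633d3, nat_lit 0x973d3, nat_lit 0x633d7,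
  nat_lit 0x6b3cb, nat_lit 0x633db, nat_lit 0x973db,
  nat_lit 0x633df, nat_lit 0x673db, nat_lit 0x633e3,
  nat_lit 0x973e3, nat_lit 0x633e7, nat_lit 0x7b2eb,
  nat_lit 0x633eb, nat_lit 0x973eb, nat_lit 0x633ef,
  nat_lit 0x673eb, nat_lit 0x633f3, nat_lit 0x973f3,
  nat_lit 0x633f7, nat_lit 0x6b3eb, nat_lit 0x633fb,
  nat_lit 0x973fb, nat_lit 0x633ff, nat_lit 0x673fb,
  nat_lit 0x63403, nat_lit 0x97403, nat_lit 0x63407,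
  nat_lit 0x6f3eb, nat_lit 0x6340b, nat_lit 0x9740b,
  nat_lit 0x6340f, nat_lit 0x6740b, nat_lit 0x63413,
  nat_lit 0x97413, nat_lit 0x63417, nat_lit 0x6b40b,
  nat_lit 0x6341b, nat_lit 0x9741b, nat_lit 0x6341f,
  nat_lit 0x6741b, nat_lit 0x63423, nat_lit 0x97423,
  nat_lit 0x63427, nat_lit 0x733eb, nat_lit 0x6342b,
  nat_lit 0x9742b, nat_lit 0x6342f, nat_lit 0x6742b,
  nat_lit 0x63433, nat_lit 0x97433, nat_lit 0x63437,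
  nat_lit 0x6b42b, nat_lit 0x6343b, nat_lit 0x9743b,
  nat_lit 0x6343f, nat_lit 0x6743b, nat_lit 0x63443,
  nat_lit 0x97443, nat_lit 0x63447, nat_lit 0x6f42b,
  nat_lit 0x6344b, nat_lit 0x9744b, nat_lit 0x6344f,
  nat_lit 0x6744b, nat_lit 0x63453, nat_lit 0x97453,
  nat_lit 0x63457, nat_lit 0x6b44b, nat_lit 0x6345b,
  nat_lit 0x9745b, nat_lit 0x6345f, nat_lit 0x6745b,
  nat_lit 0x63463, nat_lit 0x97463, nat_lit 0x63467,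
  nat_lit 0x773eb, nat_lit 0x6346b, nat_lit 0x9746b,
  nat_lit 0x6346f, nat_lit 0x6746b, nat_lit 0x63473,
  nat_lit 0x97473, nat_lit 0x63477, nat_lit 0x6b46b,
  nat_lit 0x6347b, nat_lit 0x9747b, nat_lit 0x6347f,
  nat_lit 0x6747b, nat_lit 0x63483, nat_lit 0x97483,
  nat_lit 0x63487, nat_lit 0x6f46b, nat_lit 0x6348b,
  nat_lit 0x9748b, nat_lit 0x6348f, nat_lit 0x6748b,
  nat_lit 0x63493, nat_lit 0x97493, nat_lit 0x63497,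
  nat_lit 0x6b48b, nat_lit 0x6349b, nat_lit 0x9749b,
  nat_lit 0x6349f, nat_lit 0x6749b, nat_lit 0x634a3,
  nat_lit 0x974a3, nat_lit 0x634a7, nat_lit 0x7346b,
  nat_lit 0x634ab, nat_lit 0x974ab, nat_lit 0x634af,
  nat_lit 0x674ab, nat_lit 0x634b3, nat_lit 0x974b3,
  nat_lit 0x634b7, nat_lit 0x6b4ab, nat_lit 0x634bb,
  nat_lit 0x974bb, nat_lit 0x634bf, nat_lit 0x674bb,
  nat_lit 0x634c3, nat_lit 0x974c3, nat_lit 0x634c7,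
  nat_lit 0x6f4ab, nat_lit 0x634cb, nat_lit 0x974cb,
  nat_lit 0x634cf, nat_lit 0x674cb, nat_lit 0x634d3,
  nat_lit 0x974d3, nat_lit 0x634d7, nat_lit 0x6b4cb,
  nat_lit 0x634db, nat_lit 0x974db, nat_lit 0x634df,
  nat_lit 0x674db, nat_lit 0x634e3, nat_lit 0x974e3,
  nat_lit 0x634e7, nat_lit 0x80043, nat_lit 0x634eb,
  nat_lit 0x974eb, nat_lit 0x634ef, nat_lit 0x674eb,
  nat_lit 0x634f3, nat_lit 0x974f3, nat_lit 0x634f7,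
  nat_lit 0x6b4eb, nat_lit 0x634fb, nat_lit 0x974fb,
  nat_lit 0x634ff, nat_lit 0x674fb, nat_lit 0x63503,
  nat_lit 0x97503, nat_lit 0x63507, nat_lit 0x6f4eb,
  nat_lit 0x6350b, nat_lit 0x9750b, nat_lit 0x6350f,
  nat_lit 0x6750b, nat_lit 0x63513, nat_lit 0x97513,
  nat_lit 0x63517, nat_lit 0x6b50b, nat_lit 0x6351b,
  nat_lit 0x9751b, nat_lit 0x6351f, nat_lit 0x6751b,
  nat_lit 0x63523, nat_lit 0x97523, nat_lit 0x63527,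
  nat_lit 0x734eb, nat_lit 0x6352b, nat_lit 0x9752b,
  nat_lit 0x6352f, nat_lit 0x6752b, nat_lit 0x63533,
  nat_lit 0x97533, nat_lit 0x63537, nat_lit 0x6b52b,
  nat_lit 0x6353b, nat_lit 0x9753b, nat_lit 0x6353f,
  nat_lit 0x6753b, nat_lit 0x63543, nat_lit 0x97543,
  nat_lit 0x63547, nat_lit 0x6f52b, nat_lit 0x6354b,
  nat_lit 0x9754b, nat_lit 0x6354f, nat_lit 0x6754b,
  nat_lit 0x63553, nat_lit 0x97553, nat_lit 0x63557,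
  nat_lit 0x6b54b, nat_lit 0x6355b, nat_lit 0x9755b,
  nat_lit 0x6355f, nat_lit 0x6755b, nat_lit 0x63563,
  nat_lit 0x97563, nat_lit 0x63567, nat_lit 0x774eb,
  nat_lit 0x6356b, nat_lit 0x9756b, nat_lit 0x6356f,
  nat_lit 0x6756b, nat_lit 0x63573, nat_lit 0x97573,
  nat_lit 0x63577, nat_lit 0x6b56b, nat_lit 0x6357b,
  nat_lit 0x9757b, nat_lit 0x6357f, nat_lit 0x6757b,
  nat_lit 0x63583, nat_lit 0x97583, nat_lit 0x63587,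
  nat_lit 0x6f56b, nat_lit 0x6358b, nat_lit 0x9758b,
  nat_lit 0x6358f, nat_lit 0x6758b, nat_lit 0x63593,
  nat_lit 0x97593, nat_lit 0x63597, nat_lit 0x6b58b,
  nat_lit 0x6359b, nat_lit 0x9759b, nat_lit 0x6359f,
  nat_lit 0x6759b, nat_lit 0x635a3, nat_lit 0x975a3,
  nat_lit 0x635a7, nat_lit 0x7356b, nat_lit 0x635ab,
  nat_lit 0x975ab, nat_lit 0x635af, nat_lit 0x675ab,
  nat_lit 0x635b3, nat_lit 0x975b3, nat_lit 0x635b7,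
  nat_lit 0x6b5ab, nat_lit 0x635bb, nat_lit 0x975bb,
  nat_lit 0x635bf, nat_lit 0x675bb, nat_lit 0x635c3,
  nat_lit 0x975c3, nat_lit 0x635c7, nat_lit 0x6f5ab,
  nat_lit 0x635cb, nat_lit 0x975cb, nat_lit 0x635cf,
  nat_lit 0x675cb, nat_lit 0x635d3, nat_lit 0x975d3,
  nat_lit 0x635d7, nat_lit 0x6b5cb, nat_lit 0x635db,
  nat_lit 0x975db, nat_lit 0x635df, nat_lit 0x675db,
  nat_lit 0x635e3, nat_lit 0x975e3, nat_lit 0x635e7,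
  nat_lit 0x7b4eb, nat_lit 0x635eb, nat_lit 0x975eb,
  nat_lit 0x635ef, nat_lit 0x675eb, nat_lit 0x635f3,
  nat_lit 0x975f3, nat_lit 0x635f7, nat_lit 0x6b5eb,
  nat_lit 0x635fb, nat_lit 0x975fb, nat_lit 0x635ff,
  nat_lit 0x675fb, nat_lit 0x63603, nat_lit 0x97603,
  nat_lit 0x63607, nat_lit 0x6f5eb, nat_lit 0x6360b,
  nat_lit 0x9760b, nat_lit 0x6360f, nat_lit 0x6760b,
  nat_lit 0x63613, nat_lit 0x97613, nat_lit 0x63617,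
  nat_lit 0x6b60b, nat_lit 0x6361b, nat_lit 0x9761b,
  nat_lit 0x6361f, nat_lit 0x6761b, nat_lit 0x63623,
  nat_lit 0x97623, nat_lit 0x63627, nat_lit 0x735eb,
  nat_lit 0x6362b, nat_lit 0x9762b, nat_lit 0x6362f,
  nat_lit 0x6762b, nat_lit 0x63633, nat_lit 0x97633,
  nat_lit 0x63637, nat_lit 0x6b62b, nat_lit 0x6363b,
  nat_lit 0x9763b, nat_lit 0x6363f, nat_lit 0x6763b,
  nat_lit 0x63643, nat_lit 0x97643, nat_lit 0x63647,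
  nat_lit 0x6f62b, nat_lit 0x6364b, nat_lit 0x9764b,
  nat_lit 0x6364f, nat_lit 0x6764b, nat_lit 0x63653,
  nat_lit 0x97653, nat_lit 0x63657, nat_lit 0x6b64b,
  nat_lit 0x6365b, nat_lit 0x9765b, nat_lit 0x6365f,
  nat_lit 0x6765b, nat_lit 0x63663, nat_lit 0x97663,
  nat_lit 0x63667, nat_lit 0x775eb, nat_lit 0x6366b,
  nat_lit 0x9766b, nat_lit 0x6366f, nat_lit 0x6766b,
  nat_lit 0x63673, nat_lit 0x97673, nat_lit 0x63677,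
  nat_lit 0x6b66b, nat_lit 0x6367b, nat_lit 0x9767b,
  nat_lit 0x6367f, nat_lit 0x6767b, nat_lit 0x63683,
  nat_lit 0x97683, nat_lit 0x63687, nat_lit 0x6f66b,
  nat_lit 0x6368b, nat_lit 0x9768b, nat_lit 0x6368f,
  nat_lit 0x6768b, nat_lit 0x63693, nat_lit 0x97693,
  nat_lit 0x63697, nat_lit 0x6b68b, nat_lit 0x6369b,
  nat_lit 0x9769b, nat_lit 0x6369f, nat_lit 0x6769b,
  nat_lit 0x636a3, nat_lit 0x976a3, nat_lit 0x636a7,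
  nat_lit 0x7366b, nat_lit 0x636ab, nat_lit 0x976ab,
  nat_lit 0x636af]

theorem ckA6 : chkL ruleA AL0 (nat_lit 7001) ceA6 (nat_lit 6001) = true := by decide +kernel

def ceA7 : List ℕ :=
 [nat_lit 0x676ab, nat_lit 0x636b3, nat_lit 0x976b3,
  nat_lit 0x636b7, nat_lit 0x6b6ab, nat_lit 0x636bb,
  nat_lit 0x976bb, nat_lit 0x636bf, nat_lit 0x676bb,
  nat_lit 0x636c3, nat_lit 0x976c3, nat_lit 0x636c7,
  nat_lit 0x6f6ab, nat_lit 0x636cb, nat_lit 0x976cb,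
  nat_lit 0x636cf, nat_lit 0x676cb, nat_lit 0x636d3,
  nat_lit 0x976d3, nat_lit 0x636d7, nat_lit 0x6b6cb,
  nat_lit 0x636db, nat_lit 0x976db, nat_lit 0x636df,
  nat_lit 0x676db, nat_lit 0x636e3, nat_lit 0x976e3,
  nat_lit 0x636e7, nat_lit 0x7f4eb, nat_lit 0x636eb,
  nat_lit 0x976eb, nat_lit 0x636ef, nat_lit 0x676eb,
  nat_lit 0x636f3, nat_lit 0x976f3, nat_lit 0x636f7,
  nat_lit 0x6b6eb, nat_lit 0x636fb, nat_lit 0x976fb,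
  nat_lit 0x636ff, nat_lit 0x676fb, nat_lit 0x63703,
  nat_lit 0x97703, nat_lit 0x63707, nat_lit 0x6f6eb,
  nat_lit 0x6370b, nat_lit 0x9770b, nat_lit 0x6370f,
  nat_lit 0x6770b, nat_lit 0x63713, nat_lit 0x97713,
  nat_lit 0x63717, nat_lit 0x6b70b, nat_lit 0x6371b,
  nat_lit 0x9771b, nat_lit 0x6371f, nat_lit 0x6771b,
  nat_lit 0x63723, nat_lit 0x97723, nat_lit 0x63727,
  nat_lit 0x736eb, nat_lit 0x6372b, nat_lit 0x9772b,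
  nat_lit 0x6372f, nat_lit 0x6772b, nat_lit 0x63733,
  nat_lit 0x97733, nat_lit 0x63737, nat_lit 0x6b72b,
  nat_lit 0x6373b, nat_lit 0x9773b, nat_lit 0x6373f,
  nat_lit 0x6773b, nat_lit 0x63743, nat_lit 0x97743,
  nat_lit 0x63747, nat_lit 0x6f72b, nat_lit 0x6374b,
  nat_lit 0x9774b, nat_lit 0x6374f, nat_lit 0x6774b,
  nat_lit 0x63753, nat_lit 0x97753, nat_lit 0x63757,
  nat_lit 0x6b74b, nat_lit 0x6375b, nat_lit 0x9775b,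
  nat_lit 0x6375f, nat_lit 0x6775b, nat_lit 0x63763,
  nat_lit 0x97763, nat_lit 0x63767, nat_lit 0x776eb,
  nat_lit 0x6376b, nat_lit 0x9776b, nat_lit 0x6376f,
  nat_lit 0x6776b, nat_lit 0x63773, nat_lit 0x97773,
  nat_lit 0x63777, nat_lit 0x6b76b, nat_lit 0x6377b,
  nat_lit 0x9777b, nat_lit 0x6377f, nat_lit 0x6777b,
  nat_lit 0x63783, nat_lit 0x97783, nat_lit 0x63787,
  nat_lit 0x6f76b, nat_lit 0x6378b, nat_lit 0x9778b,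
  nat_lit 0x6378f, nat_lit 0x6778b, nat_lit 0x63793,
  nat_lit 0x97793, nat_lit 0x63797, nat_lit 0x6b78b,
  nat_lit 0x6379b, nat_lit 0x9779b, nat_lit 0x6379f,
  nat_lit 0x6779b, nat_lit 0x637a3, nat_lit 0x977a3,
  nat_lit 0x637a7, nat_lit 0x7376b, nat_lit 0x637ab,
  nat_lit 0x977ab, nat_lit 0x637af, nat_lit 0x677ab,
  nat_lit 0x637b3, nat_lit 0x977b3, nat_lit 0x637b7,
  nat_lit 0x6b7ab, nat_lit 0x637bb, nat_lit 0x977bb,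
  nat_lit 0x637bf, nat_lit 0x677bb, nat_lit 0x637c3,
  nat_lit 0x977c3, nat_lit 0x637c7, nat_lit 0x6f7ab,
  nat_lit 0x637cb, nat_lit 0x977cb, nat_lit 0x637cf,
  nat_lit 0x677cb, nat_lit 0x637d3, nat_lit 0x977d3,
  nat_lit 0x637d7, nat_lit 0x6b7cb, nat_lit 0x637db,
  nat_lit 0x977db, nat_lit 0x637df, nat_lit 0x677db,
  nat_lit 0x637e3, nat_lit 0x977e3, nat_lit 0x637e7,
  nat_lit 0x7b6eb, nat_lit 0x637eb, nat_lit 0x977eb,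
  nat_lit 0x637ef, nat_lit 0x677eb, nat_lit 0x637f3,
  nat_lit 0x977f3, nat_lit 0x637f7, nat_lit 0x6b7eb,
  nat_lit 0x637fb, nat_lit 0x977fb, nat_lit 0x637ff,
  nat_lit 0x677fb, nat_lit 0x63803, nat_lit 0x97803,
  nat_lit 0x63807, nat_lit 0x6f7eb, nat_lit 0x6380b,
  nat_lit 0x9780b, nat_lit 0x6380f, nat_lit 0x6780b,
  nat_lit 0x63813, nat_lit 0x97813, nat_lit 0x63817,
  nat_lit 0x6b80b, nat_lit 0x6381b, nat_lit 0x9781b,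
  nat_lit 0x6381f, nat_lit 0x6781b, nat_lit 0x63823,
  nat_lit 0x97823, nat_lit 0x63827, nat_lit 0x737eb,
  nat_lit 0x6382b, nat_lit 0x9782b, nat_lit 0x6382f,
  nat_lit 0x6782b, nat_lit 0x63833, nat_lit 0x97833,
  nat_lit 0x63837, nat_lit 0x6b82b, nat_lit 0x6383b,
  nat_lit 0x9783b, nat_lit 0x6383f, nat_lit 0x6783b,
  nat_lit 0x63843, nat_lit 0x97843, nat_lit 0x63847,
  nat_lit 0x6f82b, nat_lit 0x6384b, nat_lit 0x9784b,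
  nat_lit 0x6384f, nat_lit 0x6784b, nat_lit 0x63853,
  nat_lit 0x97853, nat_lit 0x63857, nat_lit 0x6b84b,
  nat_lit 0x6385b, nat_lit 0x9785b, nat_lit 0x6385f,
  nat_lit 0x6785b, nat_lit 0x63863, nat_lit 0x97863,
  nat_lit 0x63867, nat_lit 0x777eb, nat_lit 0x6386b,
  nat_lit 0x9786b, nat_lit 0x6386f, nat_lit 0x6786b,
  nat_lit 0x63873, nat_lit 0x97873, nat_lit 0x63877,
  nat_lit 0x6b86b, nat_lit 0x6387b, nat_lit 0x9787b,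
  nat_lit 0x6387f, nat_lit 0x6787b, nat_lit 0x63883,
  nat_lit 0x97883, nat_lit 0x63887, nat_lit 0x6f86b,
  nat_lit 0x6388b, nat_lit 0x9788b, nat_lit 0x6388f,
  nat_lit 0x6788b, nat_lit 0x63893, nat_lit 0x97893,
  nat_lit 0x63897, nat_lit 0x6b88b, nat_lit 0x6389b,
  nat_lit 0x9789b, nat_lit 0x6389f, nat_lit 0x6789b,
  nat_lit 0x638a3, nat_lit 0x978a3, nat_lit 0x638a7,
  nat_lit 0x7386b, nat_lit 0x638ab, nat_lit 0x978ab,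
  nat_lit 0x638af, nat_lit 0x678ab, nat_lit 0x638b3,
  nat_lit 0x978b3, nat_lit 0x638b7, nat_lit 0x6b8ab,
  nat_lit 0x638bb, nat_lit 0x978bb, nat_lit 0x638bf,
  nat_lit 0x678bb, nat_lit 0x638c3, nat_lit 0x978c3,
  nat_lit 0x638c7, nat_lit 0x6f8ab, nat_lit 0x638cb,
  nat_lit 0x978cb, nat_lit 0x638cf, nat_lit 0x678cb,
  nat_lit 0x638d3, nat_lit 0x978d3, nat_lit 0x638d7,
  nat_lit 0x6b8cb, nat_lit 0x638db, nat_lit 0x978db,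
  nat_lit 0x638df, nat_lit 0x678db, nat_lit 0x638e3,
  nat_lit 0x978e3, nat_lit 0x638e7, nat_lit 0x9001b,
  nat_lit 0x18003, nat_lit 0xc005, nat_lit 0x1004d,
  nat_lit 0xc04f, nat_lit 0xc051, nat_lit 0x18053,
  nat_lit 0x10055, nat_lit 0x20057, nat_lit 0xc059,
  nat_lit 0xc05b, nat_lit 0x1805d, nat_lit 0x1805f,
  nat_lit 0x10061, nat_lit 0xc063, nat_lit 0x18065,
  nat_lit 0xc067, nat_lit 0x18069, nat_lit 0xc06b,
  nat_lit 0x1006d, nat_lit 0xc06f, nat_lit 0xc071,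
  nat_lit 0x10073, nat_lit 0x24075, nat_lit 0xc077,
  nat_lit 0xc079, nat_lit 0xc07b, nat_lit 0xc07d,
  nat_lit 0x1007f, nat_lit 0xc081, nat_lit 0x10083,
  nat_lit 0xc085, nat_lit 0xc087, nat_lit 0x20089,
  nat_lit 0x1008b, nat_lit 0xc08d, nat_lit 0xc091,
  nat_lit 0xc093, nat_lit 0xc095, nat_lit 0x10097,
  nat_lit 0xc099, nat_lit 0xc09b, nat_lit 0x1009d,
  nat_lit 0x1809f, nat_lit 0x100a1, nat_lit 0xc0a3,
  nat_lit 0xc0a5, nat_lit 0xc0a7, nat_lit 0xc0a9,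
  nat_lit 0x100ad, nat_lit 0x100af, nat_lit 0x100b7,
  nat_lit 0xc0b9, nat_lit 0xc0bb, nat_lit 0x180bd,
  nat_lit 0xc0bf, nat_lit 0xc0c1, nat_lit 0x200c5,
  nat_lit 0xc0c9, nat_lit 0xc0cb, nat_lit 0x100cd,
  nat_lit 0xc0cf, nat_lit 0x100d1, nat_lit 0x100d3,
  nat_lit 0x180d5, nat_lit 0xc0d7, nat_lit 0xc0df,
  nat_lit 0x180ef, nat_lit 0x100f3, nat_lit 0x100fb,
  nat_lit 0x20105, nat_lit 0xc107, nat_lit 0xc10b,
  nat_lit 0xc10d, nat_lit 0x1010f, nat_lit 0xc113,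
  nat_lit 0xc11f, nat_lit 0x24129, nat_lit 0x18137,
  nat_lit 0xc13b, nat_lit 0xc13d, nat_lit 0xc143,
  nat_lit 0x1014b, nat_lit 0x18151, nat_lit 0xc15f,
  nat_lit 0xc177, nat_lit 0xc195, nat_lit 0xc211,
  nat_lit 0x10217, nat_lit 0x38003, nat_lit 0x3804d,
  nat_lit 0x20051, nat_lit 0x4c051, nat_lit 0x3c055,
  nat_lit 0x4c059, nat_lit 0x3405d, nat_lit 0x38061,
  nat_lit 0x38065, nat_lit 0x3406d, nat_lit 0x24071,
  nat_lit 0x34071, nat_lit 0x2c075, nat_lit 0x34075,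
  nat_lit 0x3c079, nat_lit 0x2c07d, nat_lit 0x5807d,
  nat_lit 0x34083, nat_lit 0x3808b, nat_lit 0x3408f,
  nat_lit 0x18097, nat_lit 0x44097, nat_lit 0x240ad,
  nat_lit 0x500ad, nat_lit 0x340b1, nat_lit 0x380b9,
  nat_lit 0x100c3, nat_lit 0x3c0c3, nat_lit 0x340cf,
  nat_lit 0xc0e5, nat_lit 0x380e5, nat_lit 0x180e9,
  nat_lit 0x440e9, nat_lit 0x180f1, nat_lit 0x340f1,
  nat_lit 0x200fd, nat_lit 0x340fd, nat_lit 0x34101,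
  nat_lit 0xc12f, nat_lit 0x3412f, nat_lit 0x3815d,
  nat_lit 0x20169, nat_lit 0x34169, nat_lit 0x181bf,
  nat_lit 0x341bf, nat_lit 0x101d3, nat_lit 0x341d3,
  nat_lit 0xc1e3, nat_lit 0x341e3, nat_lit 0xc223,
  nat_lit 0x34223, nat_lit 0x10283, nat_lit 0x3c283,
  nat_lit 0x5971, nat_lit 0x3b8f1, nat_lit 0x3f8f9,
  nat_lit 0x37901, nat_lit 0x3b907, nat_lit 0x3b90b,
  nat_lit 0x37913, nat_lit 0x37929, nat_lit 0x4f92d,
  nat_lit 0x3b931, nat_lit 0x37933, nat_lit 0x3b953,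
  nat_lit 0x3795f, nat_lit 0x37967, nat_lit 0x3f975,
  nat_lit 0x3b993, nat_lit 0x37995, nat_lit 0x4f9a1,
  nat_lit 0x379b1, nat_lit 0x379b5, nat_lit 0x5b9bb,
  nat_lit 0x479c5, nat_lit 0x539c9, nat_lit 0x3f9d1,
  nat_lit 0x3b9d7, nat_lit 0x479db, nat_lit 0x379df,
  nat_lit 0x379e3, nat_lit 0x379e9, nat_lit 0x379ef,
  nat_lit 0x379f3, nat_lit 0x379f7, nat_lit 0x379fb,
  nat_lit 0x379ff, nat_lit 0x3fa03]

theorem ckA7 : chkL ruleA AL0 (nat_lit 7462) ceA7 (nat_lit 7001) = true := by decide +kernel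

def ceBR : List ℕ :=
 [nat_lit 0x0, nat_lit 0x0, nat_lit 0xd,
  nat_lit 0x24, nat_lit 0x1c75, nat_lit 0x0,
  nat_lit 0x1, nat_lit 0x2, nat_lit 0x4,
  nat_lit 0x26, nat_lit 0x27, nat_lit 0x28,
  nat_lit 0x29, nat_lit 0x2a, nat_lit 0x2b,
  nat_lit 0x2c, nat_lit 0x2d, nat_lit 0x2e,
  nat_lit 0x2f, nat_lit 0x30, nat_lit 0x31,
  nat_lit 0x32, nat_lit 0x33, nat_lit 0x34,
  nat_lit 0x35, nat_lit 0x36, nat_lit 0x37,
  nat_lit 0x38, nat_lit 0x39, nat_lit 0x3a,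
  nat_lit 0x3b, nat_lit 0x3c, nat_lit 0x3d,
  nat_lit 0x3e, nat_lit 0x3f, nat_lit 0x40,
  nat_lit 0x41, nat_lit 0x42, nat_lit 0x43,
  nat_lit 0x44, nat_lit 0x45, nat_lit 0x46,
  nat_lit 0x48, nat_lit 0x49, nat_lit 0x4a,
  nat_lit 0x4b, nat_lit 0x4c, nat_lit 0x4d,
  nat_lit 0x4e, nat_lit 0x4f, nat_lit 0x50,
  nat_lit 0x51, nat_lit 0x52, nat_lit 0x53,
  nat_lit 0x54, nat_lit 0x56, nat_lit 0x57,
  nat_lit 0x5b, nat_lit 0x5c, nat_lit 0x5d,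
  nat_lit 0x5e, nat_lit 0x5f, nat_lit 0x60,
  nat_lit 0x62, nat_lit 0x64, nat_lit 0x65,
  nat_lit 0x66, nat_lit 0x67, nat_lit 0x68,
  nat_lit 0x69, nat_lit 0x6a, nat_lit 0x6b,
  nat_lit 0x6f, nat_lit 0x72, nat_lit 0x77,
  nat_lit 0x79, nat_lit 0x7d, nat_lit 0x82,
  nat_lit 0x83, nat_lit 0x85, nat_lit 0x86,
  nat_lit 0x87, nat_lit 0x89, nat_lit 0x8f,
  nat_lit 0x94, nat_lit 0x9b, nat_lit 0x9d,
  nat_lit 0x9e, nat_lit 0xa1, nat_lit 0xa5,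
  nat_lit 0xa8, nat_lit 0xaf, nat_lit 0xbb,
  nat_lit 0xca, nat_lit 0x108, nat_lit 0x10b,
  nat_lit 0x91a, nat_lit 0x1c76, nat_lit 0x1c77,
  nat_lit 0x1c78, nat_lit 0x1c79, nat_lit 0x1c7a,
  nat_lit 0x1c7b, nat_lit 0x1c7c, nat_lit 0x1c7d,
  nat_lit 0x1c7e, nat_lit 0x1c7f, nat_lit 0x1c80,
  nat_lit 0x1c81, nat_lit 0x1c82, nat_lit 0x1c83,
  nat_lit 0x1c84, nat_lit 0x1c85, nat_lit 0x1c86,
  nat_lit 0x1c87, nat_lit 0x1c88, nat_lit 0x1c89,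
  nat_lit 0x1c8a, nat_lit 0x1c8b, nat_lit 0x1c8c,
  nat_lit 0x1c8d, nat_lit 0x1c8e, nat_lit 0x1c8f,
  nat_lit 0x1c90, nat_lit 0x1c91, nat_lit 0x1c92,
  nat_lit 0x1c93, nat_lit 0x1c94, nat_lit 0x1c95,
  nat_lit 0x1c96, nat_lit 0x1c97, nat_lit 0x1c98,
  nat_lit 0x1c99, nat_lit 0x1c9a, nat_lit 0x1c9b,
  nat_lit 0x1c9c, nat_lit 0x1c9d, nat_lit 0x1c9e,
  nat_lit 0x1c9f, nat_lit 0x1ca0, nat_lit 0x1ca1,
  nat_lit 0x1ca2, nat_lit 0x1ca3, nat_lit 0x1ca4,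
  nat_lit 0x1ca5, nat_lit 0x1ca6, nat_lit 0x1ca7,
  nat_lit 0x1ca8, nat_lit 0x1ca9, nat_lit 0x1caa,
  nat_lit 0x1cab, nat_lit 0x1cac, nat_lit 0x1cad,
  nat_lit 0x1cae, nat_lit 0x1caf, nat_lit 0x1cb0,
  nat_lit 0x1cb1, nat_lit 0x1cb2, nat_lit 0x1cb3,
  nat_lit 0x1cb4, nat_lit 0x1cb5, nat_lit 0x1cb6,
  nat_lit 0x1cb7, nat_lit 0x1cb8, nat_lit 0x1cb9,
  nat_lit 0x1cba, nat_lit 0x1cbb, nat_lit 0x1cbc,
  nat_lit 0x1cbd, nat_lit 0x1cbe, nat_lit 0x1cbf,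
  nat_lit 0x1cc0, nat_lit 0x1cc1, nat_lit 0x1cc2,
  nat_lit 0x1cc3, nat_lit 0x1cc4, nat_lit 0x1cc5,
  nat_lit 0x1cc6, nat_lit 0x1cc7, nat_lit 0x1cc8,
  nat_lit 0x1cc9, nat_lit 0x1cca, nat_lit 0x1ccb,
  nat_lit 0x1ccc, nat_lit 0x1ccd]

theorem ckBR : allN 185 (fun i => okB AL (BR i) (nth ceBR i)) = true := by decide +kernel

variable {G : Type*} [Group G] {φ : N →* G} {σ : G}

theorem Hyp.al0 (H : Hyp φ σ) : ∀ x < 7462, Al φ σ (AL0 x) := by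
  have h0 : ∀ x < 1, Al φ σ (AL0 x) := fun x hx => by
    obtain rfl : x = 0 := by omega
    rw [show AL0 0 = cOne + 2 ^ 186 * cOne by decide +kernel]; exact al_one
  have h1 := chkL_sound (ruleA_sound H) (by decide) h0 ckA0
  have h2 := chkL_sound (ruleA_sound H) (by decide) h1 ckA1
  have h3 := chkL_sound (ruleA_sound H) (by decide) h2 ckA2
  have h4 := chkL_sound (ruleA_sound H) (by decide) h3 ckA3
  have h5 := chkL_sound (ruleA_sound H) (by decide) h4 ckA4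
  have h6 := chkL_sound (ruleA_sound H) (by decide) h5 ckA5
  have h7 := chkL_sound (ruleA_sound H) (by decide) h6 ckA6
  have h8 := chkL_sound (ruleA_sound H) (by decide) h7 ckA7
  exact h8

theorem Hyp.alT (H : Hyp φ σ) (i : ℕ) : Al φ σ (AL i) := H.al0 _ (Nat.mod_lt _ (by decide))

theorem Hyp.brT (H : Hyp φ σ) (i : ℕ) : Br φ σ (BR i) := by
  have h := okB_sound H H.alT (allN_iff.1 ckBR (i % 185) (Nat.mod_lt _ (by decide)))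
  have e : BR (i % 185) = BR i := congrArg (Tr.ent _ _ _ _) (Nat.mod_mod i 185)
  rwa [e] at h

end Cfsg.Agent.MON
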