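/-
Project MON.  The normaliser of the four-group `⟨z, t⟩` has shape `2^35.(M24 × S3)`.
-/
import Cfsg.Agent.MON.CmB
import Cfsg.Agent.H15.Monster4
import Cfsg.Agent.H8.LargeX3
import Cfsg.Agent.H8.OddCore
import Cfsg.Agent.H49.Prod
import Cfsg.Agent.H22.Core

set_option autoImplicit false

namespace Cfsg.Agent.MON

open Subgroup H15 CO1 Equiv Cm

theorem exists_prod_hom {G A B : Type*} [Group G] [Group A] [Group B] {N X C R : Subgroup G}
    (hX : X ≤ N) (hC : C ≤ N) (dec : ∀ n ∈ N, ∃ x ∈ X, ∃ c ∈ C, x * c = n)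
    (cm : ∀ x ∈ X, ∀ c ∈ C, x * c * x⁻¹ * c⁻¹ ∈ R) (hR : X ⊓ C = R) (χ : C →* A) (ψ : X →* B)
    (sχ : Function.Surjective χ) (sψ : Function.Surjective ψ) (kχ : ∀ c, χ c = 1 ↔ (c : G) ∈ R)
    (kψ : ∀ x, ψ x = 1 ↔ (x : G) ∈ R) :
    ∃ f : N →* A × B, Function.Surjective f ∧ ∀ n, f n = 1 ↔ (n : G) ∈ R := by
  choose! x hx c hc e using dec
  have RX : R ≤ X := hR ▸ inf_le_left
  have RC : R ≤ C := hR ▸ inf_le_right
  let F : N → A × B := fun n => (χ ⟨c n, hc n n.2⟩, ψ ⟨x n, hx n n.2⟩)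
  have key : ∀ (n : N) (a : X) (b : C), (a : G) * b = n → F n = (χ b, ψ a) := fun n a b h => by
    have e1 : (a : G)⁻¹ * x n = b * (c n)⁻¹ := by
      rw [inv_mul_eq_iff_eq_mul, ← mul_assoc, h, eq_mul_inv_iff_mul_eq, e n n.2]
    have m : (a : G)⁻¹ * x n ∈ R := hR ▸ mem_inf.2
      ⟨X.mul_mem (X.inv_mem a.2) (hx n n.2), e1 ▸ C.mul_mem b.2 (C.inv_mem (hc n n.2))⟩
    have h1 := (kψ (a⁻¹ * ⟨x n, hx n n.2⟩)).2 m
    have h2 := (kχ (b * (⟨c n, hc n n.2⟩ : C)⁻¹)).2 (by rw [e1] at m; exact m)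
    rw [map_mul, map_inv, inv_mul_eq_one] at h1
    rw [map_mul, map_inv, mul_inv_eq_one] at h2
    exact Prod.ext h2.symm h1.symm
  refine ⟨MonoidHom.mk' F fun n m => ?_, fun ⟨a, b⟩ => ?_, fun n => ?_⟩
  · have r := inv_mem (cm _ (hx m m.2) _ (hc n n.2))
    rw [key (n * m) (⟨x n, hx n n.2⟩ * ⟨_, RX r⟩ * ⟨x m, hx m m.2⟩) (⟨c n, hc n n.2⟩ * ⟨c m, hc m m.2⟩)
      (by
        show x n * (x m * c n * (x m)⁻¹ * (c n)⁻¹)⁻¹ * x m * (c n * c m) = n * m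
        rw [← e n n.2, ← e m m.2, e n n.2, e m m.2]
        conv_rhs => rw [← e n n.2, ← e m m.2]
        group), map_mul, map_mul, map_mul, (kψ ⟨_, RX r⟩).2 r, mul_one]
    rfl
  · obtain ⟨a, rfl⟩ := sχ a
    obtain ⟨b, rfl⟩ := sψ b
    exact ⟨⟨b * a, mul_mem (hX b.2) (hC a.2)⟩, key _ b a rfl⟩
  · refine ⟨fun h => ?_, fun h => ?_⟩
    · rw [← e n n.2]
      exact mul_mem ((kψ _).1 (congrArg Prod.snd h)) ((kχ _).1 (congrArg Prod.fst h))
    · refine (key n ⟨n, RX h⟩ 1 (mul_one _)).trans ?_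
      rw [map_one, (kψ ⟨n, RX h⟩).2 h]
      rfl

theorem two_normal_M24 {K : Subgroup M24} (hn : K.Normal) (h : IsPGroup 2 K) : K = ⊥ := by
  haveI : Fact (Nat.Prime 2) := ⟨Nat.prime_two⟩
  haveI := H14.simple_M24
  refine hn.eq_bot_or_eq_top.resolve_right fun e => ?_
  haveI : Finite M24 := Nat.finite_of_card_ne_zero (by rw [H14.card_M24]; norm_num)
  obtain ⟨n, hn⟩ := h.exists_card_eq
  rw [e, card_top, H14.card_M24] at hn
  have := Nat.prime_three.dvd_of_dvd_pow (show 3 ∣ 2 ^ n by rw [← hn]; norm_num)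
  omega

variable {G : Type*} [Group G] [Finite G] {z t : G} {π : Cz z →* Spor.Co1}
  {R : G → leechLattice → Prop}

theorem Cm.MP.lp (M : MP z t π R) : H8.LP (Oz z) (Oz t) z t := by
  obtain ⟨g, rfl⟩ := isConj_iff.1 M.icj
  rw [Oz_conj]
  exact H8.lp_of_conj M.lx M.tQ M.ne.2

theorem Cm.MP.card_R (M : MP z t π R) : Nat.card (H8.lpR (Oz z) (Oz t) z t) = 2 ^ 35 := by
  obtain ⟨π', R', M'⟩ := M.symm
  have h1 := (ex_of_lx M.lx).card_cent1 M.tQ M.ne.1 M.ne.2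
  have h2 := (ex_of_lx M'.lx).card_cent1 M'.tQ M'.ne.1 M'.ne.2
  have h3 := H49.card_sup_mul_card_inf (Or.inr M.lp.A_le_norm)
  have h4 : (Oz t ⊓ centralizer ({z} : Set G)) ⊓ (Oz z ⊓ centralizer ({t} : Set G)) = Oz z ⊓ Oz t :=
    le_antisymm (fun a ha => ⟨ha.2.1, ha.1.1⟩) fun a ha => ⟨⟨ha.2, M.le ha.1⟩, ha.1, M'.le ha.2⟩
  rw [M.card] at h1
  rw [M'.card] at h2
  rw [h4, M.facts.2.2.2.1, show Nat.card (Oz t ⊓ centralizer ({z} : Set G) : Subgroup G) = 2 ^ 24 by omega,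
    show Nat.card (Oz z ⊓ centralizer ({t} : Set G) : Subgroup G) = 2 ^ 24 by omega] at h3
  change Nat.card (H8.lpR (Oz z) (Oz t) z t) * _ = _ at h3
  omega

/-- `C(z, t) / R ≅ M24` -/
theorem Cm.MP.exists_chi' (M : MP z t π R) : ∃ χ : centralizer ({z, t} : Set G) →* M24,
    Function.Surjective χ ∧ ∀ c, χ c = 1 ↔ (c : G) ∈ H8.lpR (Oz z) (Oz t) z t := by
  have hp := M.lp
  have hc := M.card_R
  have mem : ∀ {c : G}, c ∈ centralizer ({z, t} : Set G) ↔ c * z = z * c ∧ c * t = t * c := by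
    intro c
    rw [cent_pair]
    exact and_congr mem_Cz mem_Cz
  have le : H8.lpR (Oz z) (Oz t) z t ≤ centralizer ({z, t} : Set G) := fun r hr => mem.2 (hp.R_cent hr)
  have hn : ((H8.lpR (Oz z) (Oz t) z t).subgroupOf (centralizer ({z, t} : Set G))).Normal := by
    refine (normal_subgroupOf_iff_le_normalizer le).2 fun c hc => mem_normalizer_fintype fun r hr => ?_
    obtain ⟨b, hb, a, ha, rfl⟩ := hp.mem_R.1 hr
    rw [← conj_mul]
    exact mul_mem_sup (hp.symm.conj_mem_A hb (mem.1 hc).2 (mem.1 hc).1)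
      (hp.conj_mem_A ha (mem.1 hc).1 (mem.1 hc).2)
  have h2 := hp.R_isPGroup
  generalize H8.lpR (Oz z) (Oz t) z t = S at *
  obtain ⟨g, rfl⟩ := isConj_iff.1 M.icj
  obtain ⟨χ, c1, c2, -⟩ := M.exists_chi M.tQ M.ne.2
  have h3 : S.subgroupOf _ ≤ χ.ker := (Subgroup.map_eq_bot_iff _).1 (two_normal_M24 (hn.map χ c1)
    ((h2.of_equiv (subgroupOfEquivOfLe le).symm).map χ))
  have h4 := eq_of_le_of_card_ge h3 (by rw [c2, Nat.card_congr (subgroupOfEquivOfLe le).toEquiv, hc])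
  exact ⟨χ, c1, fun c => by rw [← MonoidHom.mem_ker, ← h4, mem_subgroupOf]⟩

theorem Cm.MP.shape_four (M : MP z t π R) : ∃ (E N : Subgroup G) (O : Subgroup N), IsKleinFour E ∧
    N = normalizer (E : Set G) ∧ O = pCore 2 N ∧ Nat.card O = 2 ^ 35 ∧
    (center O).map O.subtype = E.subgroupOf N ∧
    ∃ _ : O.Normal, Nonempty (N ⧸ O ≃* M24 × Perm (Fin 3)) := by
  haveI : Fact (Nat.Prime 2) := ⟨Nat.prime_two⟩
  have hp := M.lp
  obtain ⟨χ, c1, c2⟩ := M.exists_chi'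
  have hn : ((H8.lpR (Oz z) (Oz t) z t).subgroupOf (Oz z ⊔ Oz t)).Normal :=
    (normal_subgroupOf_iff_le_normalizer H8.LP.R_le_X).2 hp.X_le_norm_R
  obtain ⟨⟨e⟩, h2⟩ := hp.quot
  have mem : ∀ {c : G}, c ∈ centralizer ({z, t} : Set G) ↔ c * z = z * c ∧ c * t = t * c := by
    intro c
    rw [cent_pair]
    exact and_congr mem_Cz mem_Cz
  have hC : centralizer ((closure ({z, t} : Set G) : Subgroup G) : Set G) = centralizer {z, t} :=
    Subgroup.ext fun c => H8.LP.mem_cent_V.trans mem.symm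
  have hX := sup_le hp.Q_le_norm hp.P_le_norm
  obtain ⟨f, f1, f2⟩ := exists_prod_hom hX (hC ▸ centralizer_le_normalizer _)
    (fun n hn => let ⟨x, hx, c, a, b, e⟩ := hp.norm_V hn; ⟨x, hx, c, mem.2 ⟨a, b⟩, e⟩)
    (fun x hx c hc => hp.comm_mem_R hx (mem.1 hc).1 (mem.1 hc).2) (hC ▸ h2) χ
    (e.toMonoidHom.comp (QuotientGroup.mk' _)) c1 (e.surjective.comp (QuotientGroup.mk'_surjective _)) c2
    fun x => e.map_eq_one_iff.trans (QuotientGroup.eq_one_iff _)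
  have le := (H8.LP.R_le_X (z := z) (t := t)).trans hX
  have hk : f.ker = (H8.lpR (Oz z) (Oz t) z t).subgroupOf _ := Subgroup.ext f2
  have hO : f.ker = pCore 2 _ := by
    refine le_antisymm (H44.le_pCore inferInstance ?_) fun y hy => ?_
    · rw [hk]
      exact hp.R_isPGroup.of_equiv (subgroupOfEquivOfLe le).symm
    · have a := two_normal_M24 (Normal.map (inferInstance : (pCore 2 _).Normal)
        ((MonoidHom.fst _ _).comp f) (Prod.fst_surjective.comp f1)) (H44.pCore_isPGroup.map _)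
      have b := H22.map_pCore_le_of_surjective (p := 2) ((MonoidHom.snd _ _).comp f)
        (Prod.snd_surjective.comp f1) ⟨y, hy, rfl⟩
      rw [H8.pCore_two_perm_three, mem_bot] at b
      exact Prod.ext (mem_bot.1 (a ▸ mem_map_of_mem _ hy)) b
  refine ⟨closure {z, t}, _, f.ker, H8.isKleinFour_closure
    (orderOf_eq_prime (by rw [pow_two, M.lx.sq]) M.lx.ne) (orderOf_eq_prime (by rw [pow_two, hp.hP.sq]) M.ne.1)
    M.ne.2.symm M.comm, rfl, hO, ?_, ?_, inferInstance, ⟨QuotientGroup.quotientKerEquivOfSurjective f f1⟩⟩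
  · rw [hk, Nat.card_congr (subgroupOfEquivOfLe le).toEquiv, M.card_R]
  · refine le_antisymm ?_ fun v hv => ?_
    · rintro _ ⟨y, hy, rfl⟩
      refine hp.mem_V_of_cent fun a ha => ?_
      have m : a ∈ H8.lpR (Oz z) (Oz t) z t := mem_sup_right ha
      exact (congrArg (fun u : f.ker => (u.1.1 : G))
        (mem_center_iff.1 hy ⟨⟨a, le m⟩, (f2 _).2 m⟩)).symm
    · have m : (v : G) ∈ H8.lpR (Oz z) (Oz t) z t := by
        refine (closure_le _).2 ?_ hv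
        rintro _ (rfl | rfl)
        exacts [mem_sup_right hp.z_mem_A, mem_sup_left hp.symm.z_mem_A]
      exact ⟨⟨v, (f2 _).2 m⟩, mem_center_iff.2 fun r => Subtype.ext (Subtype.ext
        (H8.LP.mem_cent_V.2 (hp.R_cent ((f2 _).1 r.2)) v hv).symm), rfl⟩

end Cfsg.Agent.MON
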